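import Mathlib
import Cfsg.Agent.S0144
import Cfsg.Agent.S0205
import Cfsg.Agent.S0215
import Cfsg.Agent.S0225
import Cfsg.Agent.Small.Dihedral
import Cfsg.Agent.Small.KleinSylow
import Cfsg.Agent.CITGroups.Basic
import Cfsg.Agent.EPPOSeven.Pairs
import Cfsg.Agent.LocalStructure.Tools
import Cfsg.Agent.Coprime.Basic

/-!
# Groups in which normalisers of subgroups of two-prime order are maximal

`MN G`: every nontrivial subgroup whose order has at most two prime divisors has a maximal
normaliser, and there is no nontrivial solvable normal subgroup. The basic consequence is that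
commuting subgroups of coprime prime power orders have the same normaliser.
-/

set_option autoImplicit false
set_option linter.style.haveILetI false
set_option linter.unusedSectionVars false

namespace CfsgLib.MaxNormalizer

open Subgroup

variable {G : Type*} [Group G] [Finite G]

/-- The order has at most two prime divisors. -/
def TwoPrimes (H : Subgroup G) : Prop :=
  ∃ p q : ℕ, p.Prime ∧ q.Prime ∧ ∀ r : ℕ, r.Prime → r ∣ Nat.card H → r = p ∨ r = q

theorem TwoPrimes.of_dvd {H : Subgroup G} {p q a b : ℕ} (hp : p.Prime) (hq : q.Prime)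
    (h : Nat.card H ∣ p ^ a * q ^ b) : TwoPrimes H := by
  refine ⟨p, q, hp, hq, fun r hr hrd => ?_⟩
  rcases hr.dvd_mul.1 (hrd.trans h) with h' | h'
  · exact Or.inl ((Nat.prime_dvd_prime_iff_eq hr hp).1 (hr.dvd_of_dvd_pow h'))
  · exact Or.inr ((Nat.prime_dvd_prime_iff_eq hr hq).1 (hr.dvd_of_dvd_pow h'))

theorem TwoPrimes.of_isPGroup {H : Subgroup G} {p : ℕ} (hp : p.Prime) (h : IsPGroup p H) :
    TwoPrimes H := by
  haveI := Fact.mk hp
  obtain ⟨n, hn⟩ := IsPGroup.iff_card.1 h
  exact TwoPrimes.of_dvd (a := n) (b := 0) hp hp (by simp [hn])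

theorem TwoPrimes.isSolvable {H : Subgroup G} (h : TwoPrimes H) : Group.IsSolvable H := by
  obtain ⟨p, q, hp, hq, hpq⟩ := h
  set n := Nat.card H with hn
  have hn0 : n ≠ 0 := Nat.card_pos.ne'
  by_cases hne : p = q
  · subst hne
    refine Cfsg.Agent.S0144.result p p (n.factorization p) 0 hp hp ?_
    rw [pow_zero, mul_one, ← hn]
    refine Nat.eq_prime_pow_of_unique_prime_dvd hn0 (fun {r} hr hrd => (hpq r hr hrd).elim id id)
      |>.trans ?_
    congr 1
    conv_rhs => rw [Nat.eq_prime_pow_of_unique_prime_dvd hn0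
      (fun {r} hr hrd => (hpq r hr hrd).elim id id)]
    rw [hp.factorization_pow, Finsupp.single_eq_same]
  · refine Cfsg.Agent.S0144.result p q (n.factorization p) (n.factorization q) hp hq ?_
    refine Nat.eq_of_factorization_eq hn0 (by positivity [hp.pos, hq.pos]) fun r => ?_
    rw [Nat.factorization_mul (pow_ne_zero _ hp.ne_zero) (pow_ne_zero _ hq.ne_zero),
      hp.factorization_pow, hq.factorization_pow, Finsupp.add_apply, Finsupp.single_apply,
      Finsupp.single_apply]
    rcases eq_or_ne p r with rfl | hpr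
    · rw [if_pos rfl, if_neg (Ne.symm hne), add_zero]
    rcases eq_or_ne q r with rfl | hqr
    · rw [if_neg hne, if_pos rfl, zero_add]
    rw [if_neg hpr, if_neg hqr, add_zero]
    by_contra h0
    have hr : r ∈ n.factorization.support := Finsupp.mem_support_iff.2 h0
    rw [Nat.support_factorization] at hr
    rcases hpq r (Nat.prime_of_mem_primeFactors hr) (Nat.dvd_of_mem_primeFactors hr) with e | e
    · exact hpr e.symm
    · exact hqr e.symm

/-- The hypothesis on a group without solvable radical. -/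
structure MN (G : Type*) [Group G] : Prop where
  coatom : ∀ H : Subgroup G, TwoPrimes H → H ≠ ⊥ → IsCoatom (normalizer (H : Set G))
  radical : ∀ N : Subgroup G, N.Normal → Group.IsSolvable N → N = ⊥
  nontriv : Nontrivial G

theorem eq_of_coatom_le {A B : Subgroup G} (hA : IsCoatom A) (hAB : A ≤ B) (hB : B ≠ ⊤) : A = B :=
  (hA.le_iff.1 hAB).resolve_left hB |>.symm

theorem MN.normalizer_ne_top (hG : MN G) {H : Subgroup G} (hH : TwoPrimes H) (h1 : H ≠ ⊥) :
    normalizer (H : Set G) ≠ ⊤ :=
  (hG.coatom H hH h1).1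

/-- The conjugation form of membership in a normaliser, for finite groups. -/
theorem mem_normalizer_of_conj {H : Subgroup G} {g : G} (h : ∀ x ∈ H, g * x * g⁻¹ ∈ H) :
    g ∈ normalizer (H : Set G) := by
  refine mem_normalizer_iff_map_conj_eq.2 (eq_of_le_of_card_ge ?_ ?_)
  · rintro _ ⟨x, hx, rfl⟩
    exact h x hx
  · exact (card_map_of_injective (MulAut.conj g).injective).ge

/-- The `p`-elements of a product of commuting subgroups of coprime prime power orders. -/
theorem mem_left_of_sup {p q : ℕ} [Fact p.Prime] [Fact q.Prime] (hpq : p ≠ q) {P Q : Subgroup G}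
    (hP : IsPGroup p P) (hQ : IsPGroup q Q) (hc : ∀ x ∈ P, ∀ y ∈ Q, Commute x y) {z : G}
    (hz : z ∈ P ⊔ Q) {k : ℕ} (hzk : z ^ p ^ k = 1) : z ∈ P := by
  have hn : Q ≤ normalizer (P : Set G) := fun y hy => mem_normalizer_of_conj fun x hx => by
    rw [← (hc x hx y hy).eq, mul_inv_cancel_right]
    exact hx
  rw [← SetLike.mem_coe, coe_mul_of_right_le_normalizer_left P Q hn] at hz
  obtain ⟨a, ha, b, hb, rfl⟩ := hz
  obtain ⟨i, hi⟩ := hP ⟨a, ha⟩
  obtain ⟨j, hj⟩ := hQ ⟨b, hb⟩
  have hai : a ^ p ^ i = 1 := congrArg Subtype.val hi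
  have hbj : b ^ q ^ j = 1 := congrArg Subtype.val hj
  have hb' : b ^ p ^ (i + k) = 1 := by
    have h1 : (a * b) ^ p ^ (i + k) = 1 := by
      rw [pow_add, mul_comm, pow_mul, hzk, one_pow]
    rw [(hc a ha b hb).mul_pow, pow_add, pow_mul, hai, one_pow, one_mul, ← pow_add] at h1
    exact h1
  have hb1 : b = 1 := by
    refine orderOf_eq_one_iff.1 (Nat.eq_one_of_dvd_coprimes ?_ (orderOf_dvd_of_pow_eq_one hb')
      (orderOf_dvd_of_pow_eq_one hbj))
    exact Nat.Coprime.pow _ _ ((Nat.coprime_primes Fact.out Fact.out).2 hpq)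
  show a * b ∈ P
  rw [hb1, mul_one]
  exact ha

theorem normalizer_sup_le_left {p q : ℕ} [Fact p.Prime] [Fact q.Prime] (hpq : p ≠ q)
    {P Q : Subgroup G}
    (hP : IsPGroup p P) (hQ : IsPGroup q Q) (hc : ∀ x ∈ P, ∀ y ∈ Q, Commute x y) :
    normalizer ((P ⊔ Q : Subgroup G) : Set G) ≤ normalizer (P : Set G) := by
  intro g hg
  refine mem_normalizer_of_conj fun x hx => ?_
  obtain ⟨k, hk⟩ := hP ⟨x, hx⟩
  refine mem_left_of_sup hpq hP hQ hc ((mem_normalizer_iff.1 hg x).1 (mem_sup_left hx)) (k := k) ?_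
  rw [conj_pow, show x ^ p ^ k = 1 from congrArg Subtype.val hk, mul_one, mul_inv_cancel]

/-- Commuting nontrivial subgroups of coprime prime power orders have the same normaliser. -/
theorem MN.normalizer_eq (hG : MN G) {p q : ℕ} [Fact p.Prime] [Fact q.Prime] (hpq : p ≠ q)
    {P Q : Subgroup G} (hP : IsPGroup p P) (hQ : IsPGroup q Q) (hP1 : P ≠ ⊥) (hQ1 : Q ≠ ⊥)
    (hc : ∀ x ∈ P, ∀ y ∈ Q, Commute x y) :
    normalizer (P : Set G) = normalizer (Q : Set G) := by
  have h1 := normalizer_sup_le_left hpq hP hQ hc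
  have h2 := normalizer_sup_le_left (Ne.symm hpq) hQ hP fun x hx y hy => (hc y hy x hx).symm
  rw [sup_comm Q P] at h2
  have h2p : TwoPrimes (P ⊔ Q) := by
    obtain ⟨i, hi⟩ := IsPGroup.iff_card.1 hP
    obtain ⟨j, hj⟩ := IsPGroup.iff_card.1 hQ
    have hn : Q ≤ normalizer (P : Set G) := fun y hy => mem_normalizer_of_conj fun x hx => by
      rw [← (hc x hx y hy).eq, mul_inv_cancel_right]
      exact hx
    refine TwoPrimes.of_dvd (a := i) (b := j) (Fact.out : p.Prime) (Fact.out : q.Prime) ?_
    have hd : Disjoint P Q := IsPGroup.disjoint_of_ne p q hpq P Q hP hQ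
    rw [← hi, ← hj]
    exact dvd_of_eq (CfsgLib.Coprime.card_sup_eq hn hd.eq_bot)
  have hne : P ⊔ Q ≠ ⊥ := fun e => hP1 (le_bot_iff.1 (e ▸ le_sup_left))
  have hco := hG.coatom _ h2p hne
  rw [← eq_of_coatom_le hco h1 (hG.normalizer_ne_top (.of_isPGroup Fact.out hP) hP1),
    eq_of_coatom_le hco h2 (hG.normalizer_ne_top (.of_isPGroup Fact.out hQ) hQ1)]

/-! ### Elements -/

theorem isPGroup_zpowers {g : G} {p k : ℕ} (h : orderOf g = p ^ k) :
    IsPGroup p (zpowers g) := by
  exact IsPGroup.of_card (n := k) (by rw [Nat.card_zpowers, h])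

theorem zpowers_ne_bot' {g : G} (h : g ≠ 1) : zpowers g ≠ ⊥ := fun e => h (zpowers_eq_bot.1 e)

theorem ne_one_of_prime {g : G} {p : ℕ} (hp : p.Prime) (h : orderOf g = p) : g ≠ 1 := fun e => by
  rw [e, orderOf_one] at h
  exact hp.ne_one h.symm

/-- Commuting elements of coprime prime power orders have cyclic groups with equal normalisers. -/
theorem MN.normalizer_zpowers_eq (hG : MN G) {p q : ℕ} (hp : p.Prime) (hq : q.Prime) (hpq : p ≠ q)
    {x y : G} {i j : ℕ} (hx : orderOf x = p ^ i) (hy : orderOf y = q ^ j) (hx1 : x ≠ 1) (hy1 : y ≠ 1)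
    (hc : Commute x y) :
    normalizer (zpowers x : Set G) = normalizer (zpowers y : Set G) := by
  haveI := Fact.mk hp
  haveI := Fact.mk hq
  refine hG.normalizer_eq hpq (isPGroup_zpowers hx) (isPGroup_zpowers hy) (zpowers_ne_bot' hx1)
    (zpowers_ne_bot' hy1) ?_
  rintro _ ⟨a, rfl⟩ _ ⟨b, rfl⟩
  exact hc.zpow_zpow a b

theorem mem_zpowers_invol {t x : G} (ht : orderOf t = 2) (hx : x ∈ zpowers t) : x = 1 ∨ x = t := by
  obtain ⟨i, rfl⟩ := hx
  show t ^ i = 1 ∨ t ^ i = t
  rw [← zpow_mod_orderOf, ht]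
  rcases Int.emod_two_eq_zero_or_one i with h | h <;> simp [h]

theorem normalizer_zpowers_invol {t : G} (ht : orderOf t = 2) :
    normalizer (zpowers t : Set G) = centralizer ({t} : Set G) := by
  have ht1 : t ≠ 1 := CfsgLib.Small.ne_one_of_orderOf_two ht
  ext g
  constructor
  · intro hg
    refine mem_centralizer_singleton_iff.2 ?_
    rcases mem_zpowers_invol ht ((mem_normalizer_iff.1 hg t).1 (mem_zpowers t)) with h | h
    · exact absurd (conj_eq_one_iff.1 h) ht1
    · exact mul_inv_eq_iff_eq_mul.1 h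
  · intro hg
    refine mem_normalizer_of_conj fun x hx => ?_
    rcases mem_zpowers_invol ht hx with rfl | rfl
    · simp
    · rw [mem_centralizer_singleton_iff.1 hg, mul_inv_cancel_right]
      exact hx

/-- A cyclic group has at most one involution. -/
theorem invol_unique_zpowers {g u v : G} (hu : u ∈ zpowers g) (hv : v ∈ zpowers g)
    (huo : orderOf u = 2) (hvo : orderOf v = 2) : u = v := by
  classical
  haveI := Fintype.ofFinite (zpowers g)
  have h := IsCyclic.card_pow_eq_one_le (α := zpowers g) (n := 2) (by norm_num)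
  by_contra hne
  have hu1 : u ≠ 1 := CfsgLib.Small.ne_one_of_orderOf_two huo
  have hv1 : v ≠ 1 := CfsgLib.Small.ne_one_of_orderOf_two hvo
  have h3 : ({1, ⟨u, hu⟩, ⟨v, hv⟩} : Finset (zpowers g)).card = 3 := by
    rw [Finset.card_insert_of_notMem, Finset.card_pair]
    · simp [Subtype.ext_iff, hne]
    · simp [Subtype.ext_iff, hu1.symm, hv1.symm]
  have hle : ({1, ⟨u, hu⟩, ⟨v, hv⟩} : Finset (zpowers g)) ⊆
      (Finset.univ.filter fun a : zpowers g => a ^ 2 = 1) := by
    intro a ha
    simp only [Finset.mem_insert, Finset.mem_singleton] at ha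
    refine Finset.mem_filter.2 ⟨Finset.mem_univ a, Subtype.ext ?_⟩
    rcases ha with rfl | rfl | rfl
    · simp
    · simp [pow_two, CfsgLib.Small.mul_self_of_orderOf_two huo]
    · simp [pow_two, CfsgLib.Small.mul_self_of_orderOf_two hvo]
  have := Finset.card_le_card hle
  omega

/-- A nontrivial element of two-power order has an involution among its powers. -/
theorem exists_invol_pow {g : G} {k : ℕ} (hk : orderOf g = 2 ^ k) (h1 : g ≠ 1) :
    ∃ n : ℕ, orderOf (g ^ n) = 2 := by
  refine ⟨orderOf g / 2, orderOf_pow_orderOf_div (orderOf_pos g).ne' (hk ▸ dvd_pow_self 2 fun e => h1 ?_)⟩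
  exact orderOf_eq_one_iff.1 (by rw [hk, e, pow_zero])

theorem MN.coatom_centralizer (hG : MN G) {t : G} (ht : orderOf t = 2) :
    IsCoatom (centralizer ({t} : Set G)) := by
  rw [← normalizer_zpowers_invol ht]
  exact hG.coatom _ (.of_isPGroup Nat.prime_two (isPGroup_zpowers (k := 1) (by rw [ht, pow_one])))
    (zpowers_ne_bot' (CfsgLib.Small.ne_one_of_orderOf_two ht))

theorem MN.centralizer_not_normal (hG : MN G) {t : G} (ht : orderOf t = 2) :
    ¬ (centralizer ({t} : Set G)).Normal := by
  intro hn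
  haveI := hn
  set C := centralizer ({t} : Set G)
  have htC : t ∈ C := mem_centralizer_singleton_iff.2 rfl
  have h := hG.radical _ (inferInstance : ((center C).map C.subtype).Normal) (by
    haveI : Group.IsSolvable (center C) := Group.isSolvable_of_comm fun a b => Std.Commutative.comm a b
    exact Group.isSolvable_of_surjective (C.subtype.subgroupMap_surjective _))
  refine CfsgLib.Small.ne_one_of_orderOf_two ht (mem_bot.1 (h ▸ ⟨⟨t, htC⟩, ?_, rfl⟩))
  exact mem_center_iff.2 fun x => Subtype.ext (mem_centralizer_singleton_iff.1 x.2)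

theorem MN.normalizer_centralizer (hG : MN G) {t : G} (ht : orderOf t = 2) :
    normalizer (centralizer ({t} : Set G) : Set G) = centralizer ({t} : Set G) :=
  (eq_of_coatom_le (hG.coatom_centralizer ht) le_normalizer
    fun e => hG.centralizer_not_normal ht (normalizer_eq_top_iff.1 e)).symm

theorem centralizer_conj_iff {g t x : G} :
    x ∈ centralizer ({g * t * g⁻¹} : Set G) ↔ g⁻¹ * x * g ∈ centralizer ({t} : Set G) := by
  rw [mem_centralizer_singleton_iff, mem_centralizer_singleton_iff]
  constructor <;> intro h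
  · calc g⁻¹ * x * g * t = g⁻¹ * (x * (g * t * g⁻¹)) * g := by group
      _ = g⁻¹ * (g * t * g⁻¹ * x) * g := by rw [h]
      _ = t * (g⁻¹ * x * g) := by group
  · calc x * (g * t * g⁻¹) = g * (g⁻¹ * x * g * t) * g⁻¹ := by group
      _ = g * (t * (g⁻¹ * x * g)) * g⁻¹ := by rw [h]
      _ = g * t * g⁻¹ * x := by group

/-- An element moving `t` to an element with the same centraliser lies in the centraliser. -/
theorem MN.mem_of_centralizer_conj (hG : MN G) {t g : G} (ht : orderOf t = 2)
    (h : centralizer ({g * t * g⁻¹} : Set G) = centralizer ({t} : Set G)) :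
    g ∈ centralizer ({t} : Set G) := by
  rw [← hG.normalizer_centralizer ht]
  refine mem_normalizer_of_conj fun x hx => ?_
  rw [← h, centralizer_conj_iff]
  simpa [mul_assoc] using hx

/-- A maximal subgroup which is a two-group is a Sylow subgroup. -/
theorem MN.two_maximal (hG : MN G) {W : Subgroup G} (hWc : IsCoatom W) {P : Subgroup G}
    (hP : IsPGroup 2 P) (hWP : W ≤ P) : P = W := by
  refine (hWc.le_iff.1 hWP).resolve_left fun e => ?_
  subst e
  haveI := hG.nontriv
  refine (top_ne_bot : (⊤ : Subgroup G) ≠ ⊥) (hG.radical ⊤ inferInstance ?_)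
  haveI : Fact (Nat.Prime 2) := ⟨Nat.prime_two⟩
  haveI := hP.isNilpotent
  infer_instance

/-! ### Simple groups -/

/-- In a nonabelian simple group a Sylow two-subgroup has two involutions. -/
theorem exists_second_invol {T : Type*} [Group T] [Finite T] [IsSimpleGroup T]
    (hna : ¬ IsMulCommutative T) (S : Sylow 2 T) {t : T} (ht : orderOf t = 2) :
    ∃ u ∈ (S : Subgroup T), orderOf u = 2 ∧ u ≠ t := by
  haveI : Fact (Nat.Prime 2) := ⟨Nat.prime_two⟩
  by_contra hall
  push Not at hall
  have hev : Even (Nat.card T) := even_iff_two_dvd.2 (ht ▸ orderOf_dvd_natCard t)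
  obtain ⟨z, hz, N, hN, hodd, hcomm⟩ := Cfsg.Agent.S0225.result hev fun E hE => by
    haveI := hE
    obtain ⟨Q, hQ⟩ := (IsPGroup.of_card (p := 2) (n := 2) (G := E)
      (by rw [IsKleinFour.card_four]; norm_num)).exists_le_sylow
    obtain ⟨g, hg⟩ := MulAction.exists_smul_eq T Q S
    have key : ∀ x ∈ E, x ≠ 1 → g * x * g⁻¹ = t := fun x hx hx1 => by
      have hxo : orderOf x = 2 := CfsgLib.CITGroups.orderOf_two_of_mul_self
        (CfsgLib.Small.kleinFour_mul_self hE hx) hx1
      refine hall _ ?_ (by rw [CfsgLib.Small.orderOf_conj_eq, hxo])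
      have h : MulAut.conj g x ∈ g • Q := ⟨x, hQ hx, rfl⟩
      rw [hg] at h
      exact h
    haveI := Fintype.ofFinite E
    have h4 : Fintype.card E = 4 := by rw [← Nat.card_eq_fintype_card]; exact IsKleinFour.card_four
    classical
    have hsub : (Finset.univ : Finset E) ⊆
        {1, ⟨g⁻¹ * t * g, by
          obtain ⟨⟨x, hx⟩, hx1⟩ := Fintype.exists_ne_of_one_lt_card (by omega) (1 : E)
          rw [← key x hx fun e => hx1 (Subtype.ext e)]
          simpa [mul_assoc] using hx⟩} := by
      intro x _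
      by_cases hx1 : (x : T) = 1
      · simp [Subtype.ext_iff, hx1]
      · refine Finset.mem_insert_of_mem (Finset.mem_singleton.2 (Subtype.ext ?_))
        show (x : T) = g⁻¹ * t * g
        rw [← key x x.2 hx1]
        group
    have := (Finset.card_le_card hsub).trans Finset.card_le_two
    rw [Finset.card_univ] at this
    omega
  rcases hN.eq_bot_or_eq_top with e | e
  · subst e
    refine hna ⟨⟨?_⟩⟩
    rcases (inferInstance : (center T).Normal).eq_bot_or_eq_top with h | h
    · refine absurd ?_ (CfsgLib.Small.ne_one_of_orderOf_two hz)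
      rw [← mem_bot, ← h, mem_center_iff]
      intro g
      have := mem_bot.1 (hcomm g)
      rw [mul_inv_eq_one, mul_inv_eq_iff_eq_mul] at this
      exact this.symm
    · exact fun a b => (mem_center_iff.1 (h ▸ mem_top b) a)
  · subst e
    rw [card_top] at hodd
    exact Nat.not_even_iff_odd.2 hodd hev

/-- In a nonabelian simple group an involution is not isolated in a Sylow subgroup. -/
theorem not_isolated {T : Type*} [Group T] [Finite T] [IsSimpleGroup T]
    (hna : ¬ IsMulCommutative T) (S : Sylow 2 T) {u : T} (hu : orderOf u = 2) (huS : u ∈ S) :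
    ∃ g : T, g * u * g⁻¹ ∈ S ∧ g * u * g⁻¹ ≠ u := by
  by_contra hall
  push Not at hall
  obtain ⟨N, hN, hodd, hcomm⟩ := Cfsg.Agent.S0215.result S u hu huS hall
  rcases hN.eq_bot_or_eq_top with e | e
  · subst e
    refine hna ⟨⟨?_⟩⟩
    rcases (inferInstance : (center T).Normal).eq_bot_or_eq_top with h | h
    · refine absurd ?_ (CfsgLib.Small.ne_one_of_orderOf_two hu)
      rw [← mem_bot, ← h, mem_center_iff]
      intro g
      have := mem_bot.1 (hcomm g)
      rw [mul_inv_eq_one, mul_inv_eq_iff_eq_mul] at this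
      exact this.symm
    · exact fun a b => (mem_center_iff.1 (h ▸ mem_top b) a)
  · subst e
    rw [card_top] at hodd
    exact Nat.not_even_iff_odd.2 hodd (even_iff_two_dvd.2 (hu ▸ orderOf_dvd_natCard u))

end CfsgLib.MaxNormalizer
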