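import Cfsg.Agent.MaxNormalizer.Centralizer

/-!
# An involution centraliser with only central involutions

For an involution `t` of a normal simple subgroup `T`, the centraliser, if not a two-group, has an
involution which is not central: otherwise `t` would be the only involution of a Sylow subgroup of
`T`.
-/

set_option autoImplicit false
set_option linter.style.haveILetI false
set_option linter.unusedSectionVars false

namespace CfsgLib.MaxNormalizer

open Subgroup
open CfsgLib.Small (mul_self_of_orderOf_two ne_one_of_orderOf_two orderOf_conj_eq)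

variable {G : Type*} [Group G] [Finite G]

/-- A Sylow subgroup meets a normal subgroup in a Sylow subgroup. -/
theorem exists_sylow_normal (S : Sylow 2 G) (T : Subgroup G) [T.Normal] :
    ∃ P : Sylow 2 T, ∀ x : T, x ∈ (P : Subgroup T) ↔ (x : G) ∈ (S : Subgroup G) := by
  haveI : Fact (Nat.Prime 2) := ⟨Nat.prime_two⟩
  obtain ⟨P, hP⟩ := CfsgLib.LocalStructure.sylow_inf S (X := T)
    ((normalizer_eq_top_iff.2 (inferInstance : T.Normal)).symm ▸ le_top)
  refine ⟨P, fun x => ?_⟩
  rw [hP, mem_subgroupOf, mem_inf]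
  exact ⟨And.left, fun h => ⟨h, x.2⟩⟩

theorem coe_orderOf_two {T : Subgroup G} {x : T} : orderOf (x : G) = 2 ↔ orderOf x = 2 := by
  rw [Subgroup.orderOf_coe]

/-- A maximal two-subgroup of `C(t)` which is no Sylow subgroup has a normalising element outside
`C(t)`. -/
theorem exists_normalizing_of_lt {t : G} {S P : Subgroup G} (_hS : IsPGroup 2 S)
    (hSM : S ≤ centralizer ({t} : Set G))
    (hmax : ∀ Q : Subgroup G, IsPGroup 2 Q → Q ≤ centralizer ({t} : Set G) → S ≤ Q → Q = S)
    (hP : IsPGroup 2 P) (hSP : S ≤ P) (hne : S ≠ P) :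
    ∃ n ∈ P, n ∈ normalizer (S : Set G) ∧ n ∉ centralizer ({t} : Set G) := by
  obtain ⟨n, hnP, hnS, hnN⟩ := CfsgLib.EPPOSeven.exists_normalizing_notMem hP hSP hne
  refine ⟨n, hnP, hnN, fun hnM => hnS ?_⟩
  have h := hmax (S ⊔ zpowers n) (hP.to_le (sup_le hSP (zpowers_le.2 hnP)))
    (sup_le hSM (zpowers_le.2 hnM)) le_sup_left
  exact h ▸ mem_sup_right (mem_zpowers n)

variable (hG : MN G) (T : Subgroup G) [T.Normal] [IsSimpleGroup T] (hna : ¬ IsMulCommutative T)
  {t : G} (ht : orderOf t = 2) (htT : t ∈ T)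
include hG hna ht htT

/-- The centraliser of `t` has an involution outside its centre. -/
theorem exists_outer : ∃ a ∈ centralizer ({t} : Set G), orderOf a = 2 ∧ ¬ InE t a := by
  haveI : Fact (Nat.Prime 2) := ⟨Nat.prime_two⟩
  by_contra hall
  push Not at hall
  have htM : t ∈ centralizer ({t} : Set G) := mem_centralizer_singleton_iff.2 rfl
  have htto : orderOf (⟨t, htT⟩ : T) = 2 := coe_orderOf_two.1 ht
  -- a conjugate outside the centraliser
  obtain ⟨g0, hg0T, hv⟩ : ∃ g0 ∈ T, g0 * t * g0⁻¹ ∉ centralizer ({t} : Set G) := by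
    by_contra hcon
    push Not at hcon
    refine hna ⟨⟨?_⟩⟩
    have hc : (⟨t, htT⟩ : T) ∈ center T := mem_center_iff.2 fun g => Subtype.ext <| by
      have hE := hall _ (hcon g g.2) (by rw [orderOf_conj_eq, ht])
      exact mem_centralizer_singleton_iff.1 (hG.mem_of_centralizer_conj ht
        (inE_centralizer hG ht hE (ne_one_of_orderOf_two (by rw [orderOf_conj_eq, ht]))))
    rcases (inferInstance : (center T).Normal).eq_bot_or_eq_top with h | h
    · exact absurd (mem_bot.1 (h ▸ hc)) (ne_one_of_orderOf_two htto)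
    · exact fun a b => (mem_center_iff.1 (h ▸ mem_top b) a)
  set v := g0 * t * g0⁻¹ with hvdef
  have hvo : orderOf v = 2 := by rw [hvdef, orderOf_conj_eq, ht]
  have hvT : v ∈ T := mul_mem (mul_mem hg0T htT) (inv_mem hg0T)
  -- every involution of `T` in the centraliser is conjugate to `v`
  have key : ∀ u ∈ centralizer ({t} : Set G), u ∈ T → orderOf u = 2 →
      ∃ g ∈ T, g * u * g⁻¹ = v := by
    intro u huM huT huo
    rcases Nat.even_or_odd (orderOf (u * v)) with hev | hodd
    · exfalso
      obtain ⟨hwo, hwu, hwv⟩ := CfsgLib.Small.half_pow_spec huo hvo hev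
      have hwM : (u * v) ^ (orderOf (u * v) / 2) ∈ centralizer ({t} : Set G) := by
        rw [← inE_centralizer hG ht (hall u huM huo) (ne_one_of_orderOf_two huo)]
        exact mem_centralizer_singleton_iff.2 hwu.eq
      refine hv ?_
      rw [← inE_centralizer hG ht (hall _ hwM hwo) (ne_one_of_orderOf_two hwo)]
      exact mem_centralizer_singleton_iff.2 hwv.symm.eq
    · obtain ⟨k, hk⟩ := CfsgLib.Small.conj_pow_eq_of_odd huo hvo hodd
      exact ⟨_, pow_mem (mul_mem huT hvT) k, hk⟩
  have huniq : ∀ u ∈ centralizer ({t} : Set G), u ∈ T → orderOf u = 2 → u = t := by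
    intro u huM huT huo
    obtain ⟨g, hgT, hg⟩ := key u huM huT huo
    obtain ⟨g', hgT', hg'⟩ := key t htM htT ht
    have hconj : (g⁻¹ * g') * t * (g⁻¹ * g')⁻¹ = u := by
      calc (g⁻¹ * g') * t * (g⁻¹ * g')⁻¹ = g⁻¹ * (g' * t * g'⁻¹) * g := by group
        _ = g⁻¹ * (g * u * g⁻¹) * g := by rw [hg', ← hg]
        _ = u := by group
    have hmem : g⁻¹ * g' ∈ centralizer ({t} : Set G) := hG.mem_of_centralizer_conj ht
      (by rw [hconj]; exact inE_centralizer hG ht (hall u huM huo) (ne_one_of_orderOf_two huo))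
    rw [← hconj, mem_centralizer_singleton_iff.1 hmem, mul_inv_cancel_right]
  -- a Sylow subgroup inside the centraliser
  obtain ⟨S, htS, hSM, hS, hmax⟩ := CfsgLib.EPPOSeven.exists_maximal_two_subgroup
    (isPGroup_zpowers (g := t) (k := 1) (by rw [ht, pow_one])) (zpowers_le.2 htM)
  have hsyl : ∀ {P : Subgroup G}, IsPGroup 2 P → S ≤ P → P = S := by
    intro P hP hSP
    by_contra hne
    obtain ⟨n, -, hnN, hnM⟩ := exists_normalizing_of_lt hS hSM hmax hP hSP (Ne.symm hne)
    have hm : n * t * n⁻¹ ∈ S := (mem_normalizer_iff.1 hnN t).1 (htS (mem_zpowers t))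
    exact hnM (hG.mem_of_centralizer_conj ht (inE_centralizer hG ht
      (hall _ (hSM hm) (by rw [orderOf_conj_eq, ht]))
      (ne_one_of_orderOf_two (by rw [orderOf_conj_eq, ht]))))
  obtain ⟨P, hP⟩ := exists_sylow_normal ⟨S, hS, hsyl⟩ T
  obtain ⟨u, huP, huo, hne⟩ := exists_second_invol hna P htto
  exact hne (Subtype.ext (huniq u (hSM ((hP u).1 huP)) u.2 (coe_orderOf_two.2 huo)))

end CfsgLib.MaxNormalizer
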