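import Cfsg.Agent.MaxNormalizer.Basic
import Cfsg.Agent.DicksonPSL2.Coatoms
import Cfsg.Agent.DicksonPSL2.SmallTorus
import Cfsg.Agent.PSLEleven.Subgroups

/-!
# `PSL(2, q)` with maximal normalisers

A torus of odd order has prime order, a translation has the Borel subgroup for normaliser, so `q`
is prime; with centralisers of involutions of order `4r` this leaves `q = 13`.
-/

set_option autoImplicit false
set_option linter.style.haveILetI false
set_option linter.unusedSectionVars false

namespace CfsgLib.MaxNormalizer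

open Subgroup CfsgLib.SL2Trace CfsgLib.DicksonPSL2
open scoped MatrixGroups

theorem TwoPrimes.map_equiv {G H : Type*} [Group G] [Group H] (e : G ≃* H) {A : Subgroup G}
    (h : TwoPrimes A) : TwoPrimes (A.map e.toMonoidHom) := by
  obtain ⟨p, q, hp, hq, hpq⟩ := h
  refine ⟨p, q, hp, hq, fun r hr hrd => hpq r hr ?_⟩
  rwa [card_map_of_injective e.injective] at hrd

/-- The hypothesis passes to isomorphic groups. -/
theorem MN.of_equiv {G H : Type*} [Group G] [Group H] (hG : MN G) (e : G ≃* H) : MN H where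
  coatom A hA hA1 := by
    have h1 : A.map e.symm.toMonoidHom ≠ ⊥ := fun h =>
      hA1 ((map_eq_bot_iff_of_injective _ e.symm.injective).1 h)
    have h := hG.coatom _ (hA.map_equiv e.symm) h1
    rw [← map_equiv_normalizer_eq] at h
    exact ((MulEquiv.mapSubgroup e.symm).isCoatom_iff _).1 h
  radical N hN hs := by
    haveI := hN
    have := hG.radical _ (hN.map _ e.symm.surjective)
      (Group.isSolvable_of_surjective (e.symm.toMonoidHom.subgroupMap_surjective N))
    exact (map_eq_bot_iff_of_injective _ e.symm.injective).1 this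
  nontriv := haveI := hG.nontriv; e.toEquiv.symm.nontrivial

variable {F : Type*} [Field F] [Fintype F]

local notation "L" => Matrix.ProjectiveSpecialLinearGroup (Fin 2) F

theorem two_ne_zero_of_odd (hodd : Odd (Fintype.card F)) : (2 : F) ≠ 0 := by
  intro h
  haveI := CharP.charP_iff_prime_eq_zero (R := F) Nat.prime_two |>.2 (by exact_mod_cast h)
  obtain ⟨n, -, hn⟩ := FiniteField.card F 2
  rw [hn] at hodd
  exact Nat.not_even_iff_odd.2 hodd ((Nat.even_pow' n.ne_zero).2 even_two)

/-- A torus of odd order has prime order. -/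
theorem prime_card_torus (hG : MN L) {x : L} (hx : IsTor x) (ho : Odd (Nat.card (torus x))) :
    (Nat.card (torus x)).Prime := by
  set T := torus x with hT
  have hx1 := ne_one_of_isTor hx
  have hT1 : 1 < Nat.card T := by
    rw [Finite.one_lt_card_iff_nontrivial]
    exact ⟨⟨⟨x, self_mem_torus x⟩, 1, fun e => hx1 (congrArg Subtype.val e)⟩⟩
  obtain ⟨s, hs, hsd⟩ := Nat.exists_prime_and_dvd (by omega : Nat.card T ≠ 1)
  haveI := Fact.mk hs
  obtain ⟨z', hz'⟩ := exists_prime_orderOf_dvd_card' (G := T) s hsd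
  set z : L := (z' : L) with hzdef
  have hzT : z ∈ T := z'.2
  have hzo : orderOf z = s := by rw [hzdef, Subgroup.orderOf_coe, hz']
  have hz1 := ne_one_of_prime hs hzo
  have hs2 : s ≠ 2 := fun e => Nat.not_even_iff_odd.2 ho (even_iff_two_dvd.2 (e ▸ hsd))
  obtain ⟨n, hnN, hnT⟩ : ∃ n ∈ normalizer (T : Set L), n ∉ T := by
    by_contra hall
    push Not at hall
    have := card_le_of_le hall
    rw [(card_normalizer_torus hx).1, ← hT] at this
    omega
  obtain ⟨hn2, hinv⟩ := (mem_or_inverts hx ((mem_normalizer_iff.1 hnN x).1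
    (self_mem_torus x))).resolve_left hnT
  have hn1 : n ≠ 1 := fun e => hnT (e ▸ one_mem _)
  have hno : orderOf n = 2 := CfsgLib.Small.orderOf_eq_two_iff_sq.2 ⟨hn1, hn2⟩
  have hnz : n * z * n⁻¹ = z⁻¹ := hinv z hzT
  have hnN' : zpowers n ≤ normalizer (zpowers z : Set L) := zpowers_le.2 (mem_normalizer_of_conj (by
    rintro _ ⟨i, rfl⟩
    show n * z ^ i * n⁻¹ ∈ zpowers z
    rw [← conj_zpow, hnz]
    exact zpow_mem (inv_mem (mem_zpowers z)) i))
  set H := zpowers z ⊔ zpowers n with hH
  have hmem : ∀ w ∈ H, w ∈ zpowers z ∨ ∃ i : ℤ, w = z ^ i * n := by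
    intro w hw
    rw [hH, ← SetLike.mem_coe, coe_mul_of_right_le_normalizer_left _ _ hnN'] at hw
    obtain ⟨u, ⟨i, rfl⟩, v, hv, rfl⟩ := hw
    rcases mem_zpowers_invol hno hv with rfl | rfl
    · exact Or.inl (by simp)
    · exact Or.inr ⟨i, rfl⟩
  have hsq : ∀ i : ℤ, (z ^ i * n) * (z ^ i * n) = 1 := by
    intro i
    calc (z ^ i * n) * (z ^ i * n) = z ^ i * (n * z ^ i * n⁻¹) * (n * n) := by group
      _ = 1 := by rw [← conj_zpow, hnz, hn2, mul_one, inv_zpow, mul_inv_cancel]
  have hle : normalizer (H : Set L) ≤ normalizer (zpowers z : Set L) := by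
    intro g hg
    refine mem_normalizer_of_conj ?_
    have key : g * z * g⁻¹ ∈ zpowers z := by
      rcases hmem _ ((mem_normalizer_iff.1 hg z).1 (mem_sup_left (mem_zpowers z))) with h | ⟨i, hi⟩
      · exact h
      · exfalso
        have h1 : orderOf (g * z * g⁻¹) ∣ 2 :=
          orderOf_dvd_of_pow_eq_one (by rw [pow_two, hi, hsq])
        rw [CfsgLib.Small.orderOf_conj_eq, hzo] at h1
        exact hs2 ((Nat.prime_dvd_prime_iff_eq hs Nat.prime_two).1 h1)
    rintro _ ⟨j, rfl⟩
    show g * z ^ j * g⁻¹ ∈ zpowers z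
    rw [← conj_zpow]
    exact zpow_mem key j
  have hzp : IsPGroup s (zpowers z) := isPGroup_zpowers (k := 1) (by rw [pow_one, hzo])
  have h2p : TwoPrimes H := by
    haveI : Fact (Nat.Prime 2) := ⟨Nat.prime_two⟩
    refine TwoPrimes.of_dvd (a := 1) (b := 1) hs Nat.prime_two ?_
    rw [hH, CfsgLib.Coprime.card_sup_eq hnN'
      (IsPGroup.disjoint_of_ne s 2 hs2 _ _ hzp (isPGroup_zpowers (k := 1) (by rw [hno, pow_one]))).eq_bot,
      Nat.card_zpowers, Nat.card_zpowers, hzo, hno, pow_one, pow_one]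
  have heq := eq_of_coatom_le (hG.coatom H h2p fun e => hz1 (mem_bot.1 (e ▸ mem_sup_left (mem_zpowers z))))
    hle (hG.normalizer_ne_top (.of_isPGroup hs hzp) (zpowers_ne_bot' hz1))
  have hTz : T ≤ zpowers z := by
    intro c hc
    have hcz : Commute c z := torus_comm hx hc hzT
    have hcN : c ∈ normalizer (zpowers z : Set L) := mem_normalizer_of_conj (by
      rintro _ ⟨i, rfl⟩
      show c * z ^ i * c⁻¹ ∈ zpowers z
      rw [(hcz.zpow_right i).eq, mul_inv_cancel_right]
      exact zpow_mem (mem_zpowers z) i)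
    rw [← heq] at hcN
    have h1 : c * n * c⁻¹ * n⁻¹ ∈ H :=
      mul_mem ((mem_normalizer_iff.1 hcN n).1 (mem_sup_right (mem_zpowers n)))
        (inv_mem (mem_sup_right (mem_zpowers n)))
    rw [show c * n * c⁻¹ * n⁻¹ = c * (n * c⁻¹ * n⁻¹) by group, ← conj_inv, hinv c hc, inv_inv] at h1
    have h2 : c * c ∈ zpowers z := by
      rcases hmem _ h1 with h | ⟨i, hi⟩
      · exact h
      · exfalso
        refine hnT ?_
        rw [show n = (z ^ i)⁻¹ * (c * c) by rw [hi, inv_mul_cancel_left]]
        exact mul_mem (inv_mem (zpow_mem hzT i)) (mul_mem hc hc)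
    obtain ⟨k, hk⟩ := Odd.of_dvd_nat ho (T.orderOf_dvd_natCard hc)
    have h3 : (c * c) ^ (k + 1) = c := by
      rw [← pow_two, ← pow_mul, show 2 * (k + 1) = orderOf c + 1 by omega, pow_succ,
        pow_orderOf_eq_one, one_mul]
    exact h3 ▸ pow_mem h2 _
  rw [le_antisymm hTz (zpowers_le.2 hzT), Nat.card_zpowers, hzo]
  exact hs

theorem u_pow (k : ℕ) : (u (1 : F)) ^ k = u (k : F) := by
  induction k with
  | zero => simp [u_zero]
  | succ k ih => rw [pow_succ, ih, ← u_add, Nat.cast_succ]

/-- The field has prime order. -/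
theorem prime_card_field (hG : MN L) (hodd : Odd (Fintype.card F)) :
    (Fintype.card F).Prime := by
  classical
  obtain ⟨p, hp'⟩ := CharP.exists F
  obtain ⟨n, hp, hq⟩ := FiniteField.card F p
  haveI := Fact.mk hp
  have hp2 : p ≠ 2 := fun e => Nat.not_even_iff_odd.2 hodd
    (hq ▸ e ▸ (Nat.even_pow' n.ne_zero).2 even_two)
  have hu1 : (u (1 : F) : L) ≠ 1 := u_ne_one one_ne_zero
  have huo : orderOf (u (1 : F) : L) = p := by
    refine orderOf_eq_prime ?_ hu1
    rw [u_pow, CharP.cast_eq_zero, u_zero]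
  have hconj : ∀ x ∈ normalizer (zpowers (u (1 : F)) : Set L),
      x ∈ BP ∧ ∃ k : ℕ, chi x = (k : F) := by
    intro x hx
    obtain ⟨k, hk⟩ : ∃ k : ℕ, (u (1 : F) : L) ^ k = x * u 1 * x⁻¹ :=
      mem_powers_iff_mem_zpowers.2 ((mem_normalizer_iff.1 hx _).1 (mem_zpowers _))
    rw [u_pow] at hk
    have hB : x ∈ BP := mem_BP_of_conj_u one_ne_zero hk.symm
    refine ⟨hB, k, ?_⟩
    rw [conj_u hB, mul_one] at hk
    exact (u_injective hk).symm
  have hcoB : IsCoatom (BP (F := F)) := isCoatom_BP
  have heq := eq_of_coatom_le (hG.coatom _ (.of_isPGroup hp (isPGroup_zpowers (k := 1)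
    (by rw [pow_one, huo]))) (zpowers_ne_bot' hu1)) (fun x hx => (hconj x hx).1) hcoB.1
  have hsub : (Finset.univ.image fun a : F => a ^ 2) ⊆
      (Finset.range p).image fun k : ℕ => (k : F) := by
    intro b hb
    obtain ⟨a, -, rfl⟩ := Finset.mem_image.1 hb
    rcases eq_or_ne a 0 with rfl | ha
    · exact Finset.mem_image.2 ⟨0, Finset.mem_range.2 hp.pos, by simp⟩
    let g : SL(2, F) := ⟨!![a, 0; 0, a⁻¹], by simp [Matrix.det_fin_two, ha]⟩
    have hg : g.1 = !![a, 0; 0, a⁻¹] := rfl
    have hB : proj g ∈ BP := (proj_mem_BP_iff g).2 (by simp [hg])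
    rw [← heq] at hB
    obtain ⟨k, hk⟩ := (hconj _ hB).2
    rw [chi_proj, hg] at hk
    refine Finset.mem_image.2 ⟨k % p, Finset.mem_range.2 (Nat.mod_lt _ hp.pos), ?_⟩
    rw [← CharP.natCast_eq_natCast' F p (Nat.mod_modEq k p)] at hk
    simpa using hk.symm
  have hcard : Fintype.card F ≤ 2 * p := by
    calc Fintype.card F ≤ (Finset.univ.image fun a : F => a ^ 2).card * 2 := by
          rw [← Finset.card_univ]
          refine (Finset.card_le_mul_card_image (f := fun a : F => a ^ 2) _ 2 fun b hb => ?_).trans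
            (mul_comm _ _).le
          obtain ⟨a, -, rfl⟩ := Finset.mem_image.1 hb
          refine (Finset.card_le_card (?_ : _ ⊆ ({a, -a} : Finset F))).trans Finset.card_le_two
          intro c hc
          simp only [Finset.mem_filter, Finset.mem_univ, true_and] at hc
          simp only [Finset.mem_insert, Finset.mem_singleton]
          exact sq_eq_sq_iff_eq_or_eq_neg.1 hc
      _ ≤ ((Finset.range p).image fun k : ℕ => (k : F)).card * 2 :=
          Nat.mul_le_mul_right 2 (Finset.card_le_card hsub)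
      _ ≤ p * 2 := Nat.mul_le_mul_right 2 (Finset.card_image_le.trans (Finset.card_range p).le)
      _ = 2 * p := mul_comm _ _
  rw [hq] at hcard ⊢
  rcases Nat.lt_or_ge (n : ℕ) 2 with h | h
  · rw [show (n : ℕ) = 1 by have := n.pos; omega, pow_one]
    exact hp
  · have h1 := Nat.pow_le_pow_right hp.pos h
    have h2 := hp.two_le
    rw [pow_two] at h1
    have : p * p ≤ 2 * p := h1.trans hcard
    have := Nat.le_of_mul_le_mul_right this hp.pos
    omega

/-- The field has thirteen elements. -/
theorem card_eq_thirteen (hG : MN L) (hodd : Odd (Fintype.card F)) {j : L} (hj : orderOf j = 2)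
    {r : ℕ} (hr : r.Prime) (hr2 : r ≠ 2) (hC : Nat.card (centralizer ({j} : Set L)) = 4 * r) :
    Fintype.card F = 13 := by
  classical
  set q := Fintype.card F with hqdef
  have hqp := prime_card_field hG hodd
  haveI := Fact.mk hqp
  haveI : CharP F q := by
    obtain ⟨p, hp'⟩ := CharP.exists F
    obtain ⟨n, hp, hq⟩ := FiniteField.card F p
    have : q = p := by
      rw [← hqdef] at hq
      refine ((Nat.prime_dvd_prime_iff_eq hp hqp).1 ?_).symm
      rw [hqdef] at hq
      rw [show Fintype.card F = p ^ (n : ℕ) from hq]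
      exact dvd_pow_self p n.ne_zero
    exact this ▸ hp'
  have hq2 : q ≠ 2 := fun e => Nat.not_even_iff_odd.2 hodd (e ▸ even_two)
  have hgcd : Nat.gcd 2 (q - 1) = 2 := by
    obtain ⟨k, hk⟩ := hodd
    exact Nat.gcd_eq_left ⟨k, by omega⟩
  have hjT : IsTor j := by
    rw [isTor_iff_pow q]
    intro e
    have h := orderOf_dvd_of_pow_eq_one e
    rw [hj] at h
    exact hq2 ((Nat.prime_dvd_prime_iff_eq Nat.prime_two hqp).1 h).symm
  have hN : normalizer (torus j : Set L) = centralizer ({j} : Set L) := by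
    ext c
    constructor
    · intro hc
      refine mem_centralizer_singleton_iff.2 (mul_inv_eq_iff_eq_mul.1 ?_)
      haveI := isCyclic_torus hjT
      obtain ⟨g, hg⟩ := IsCyclic.exists_generator (α := torus j)
      have hle : ∀ w ∈ torus j, w ∈ zpowers (g : L) := fun w hw => by
        obtain ⟨i, hi⟩ := hg ⟨w, hw⟩
        exact ⟨i, congrArg Subtype.val hi⟩
      exact invol_unique_zpowers (hle _ ((mem_normalizer_iff.1 hc j).1 (self_mem_torus j)))
        (hle _ (self_mem_torus j)) (by rw [CfsgLib.Small.orderOf_conj_eq, hj]) hj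
    · intro hc
      rw [mem_normalizer_torus_iff hjT,
        mul_inv_eq_iff_eq_mul.2 (mem_centralizer_singleton_iff.1 hc)]
      exact self_mem_torus j
  have hN2 := (card_normalizer_torus hjT).1
  rw [hN, hC] at hN2
  have h4 : 4 ≤ q := by
    have := hr.two_le
    rcases card_torus hjT with h | h <;> rw [← hqdef, hgcd] at h <;> omega
  have h5 := hr.two_le
  have hfin : ∀ {a b : ℕ}, a.Prime → b ∣ a → b = 1 ∨ b = a := fun ha hb => ha.eq_one_or_self_of_dvd _ hb
  have h3 := (Nat.prime_dvd_prime_iff_eq Nat.prime_three hr)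
  rcases card_torus hjT with h | h <;> rw [← hqdef, hgcd] at h
  · obtain ⟨x, hx, hxc, -⟩ := exists_torus_plus F
    rw [← hqdef, hgcd] at hxc
    have hm : Nat.card (torus x) = 2 * r + 1 := by omega
    have hmp : (2 * r + 1).Prime := hm ▸ prime_card_torus hG hx ⟨r, hm⟩
    rcases (show r % 3 = 0 ∨ r % 3 = 1 ∨ r % 3 = 2 by omega) with e | e | e
    · have := h3.1 (Nat.dvd_of_mod_eq_zero e); omega
    · rcases hfin hmp (show 3 ∣ 2 * r + 1 by omega) with f | f <;> omega
    · rcases hfin hqp (show 3 ∣ q by omega) with f | f <;> omega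
  · obtain ⟨x, hx, -, hxc⟩ := exists_torus_minus F h4
    rw [← hqdef, hgcd] at hxc
    have hm : Nat.card (torus x) = 2 * r - 1 := by omega
    have hmp : (2 * r - 1).Prime := hm ▸ prime_card_torus hG hx ⟨r - 1, by omega⟩
    exfalso
    rcases (show r % 3 = 0 ∨ r % 3 = 1 ∨ r % 3 = 2 by omega) with e | e | e
    · -- the field of eleven elements
      have hr3 := h3.1 (Nat.dvd_of_mod_eq_zero e)
      have hq11 : q = 11 := by omega
      haveI : CharP F 11 := hq11 ▸ ‹CharP F q›
      haveI : Fact (Nat.Prime 5) := ⟨by norm_num⟩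
      have hT5 : Nat.card (torus x) = 5 := by omega
      have hL := CfsgLib.PSLEleven.card_psl (F := F) hq11
      have hS : Nat.card (CfsgLib.PSLEleven.subH F) = 60 := by
        have h1 := (CfsgLib.PSLEleven.subH F).card_mul_index
        rw [CfsgLib.PSLEleven.index_subH hq11, hL] at h1
        omega
      have hN5 : Nat.card (normalizer (torus x : Set L)) = 10 := by
        rw [(card_normalizer_torus hx).1, hT5]
      refine not_isCoatom_normalizer 5 (T := torus x) (S := CfsgLib.PSLEleven.subH F) hT5 (by rw [hL]; norm_num)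
        (fun e' => by rw [e', card_top, hL] at hS; omega) (by rw [hN5, hS]; norm_num)
        (by rw [hS]; norm_num) (fun d hd hd5 => ?_) (hG.coatom _ ?_ ?_)
      · rw [hS] at hd ⊢
        rw [hN5]
        have : ∀ d ∈ (60 : ℕ).divisors, d % 5 = 1 → d * 10 ≤ 60 := by decide
        exact this d hd hd5
      · exact TwoPrimes.of_isPGroup (by norm_num : Nat.Prime 5)
          (IsPGroup.of_card (n := 1) (by rw [hT5, pow_one]))
      · intro e'
        rw [e', card_bot] at hT5
        omega
    · rcases hfin hqp (show 3 ∣ q by omega) with f | f <;> omega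
    · rcases hfin hmp (show 3 ∣ 2 * r - 1 by omega) with f | f <;> omega

end CfsgLib.MaxNormalizer
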