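import Cfsg.Agent.MaxNormalizer.CentralCase
import Cfsg.Agent.MaxNormalizer.Projective
import Cfsg.Agent.CITGroups.Main
import Cfsg.Agent.CNStructure.Basic

/-!
# Two-group centralisers do not occur

If all involutions of `T` have two-group centralisers in `G`, a Sylow subgroup of `T` is its own
normaliser in `T`, and of the simple groups with two-group centralisers this leaves `G = T` of type
`PSL(2, q)` with a dihedral Sylow subgroup as a maximal subgroup, which is refuted by a torus of odd
order.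
-/

set_option autoImplicit false
set_option linter.style.haveILetI false
set_option linter.unusedSectionVars false

namespace CfsgLib.MaxNormalizer

open Subgroup
open CfsgLib.Small (mul_self_of_orderOf_two ne_one_of_orderOf_two orderOf_conj_eq)
open CfsgLib.CITGroups (exists_orderOf_eq_two_pow orderOf_two_of_mul_self IsCIT)
open CfsgLib.EPPOSeven (MaxPair JT omegaCentral)

variable {G : Type*} [Group G] [Finite G]

variable (hG : MN G) (T : Subgroup G) [T.Normal] [IsSimpleGroup T] (hna : ¬ IsMulCommutative T)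
  (h2 : ∀ t ∈ T, orderOf t = 2 → IsPGroup 2 (centralizer ({t} : Set G)))
include hG hna h2

theorem even_card_socle : 2 ∣ Nat.card T := by
  by_contra hodd
  haveI : Group.IsSolvable T := Cfsg.Agent.S0205.result (Nat.odd_iff.2 (by omega))
  exact hna ⟨⟨fun a b => IsSimpleGroup.comm_iff_isSolvable.2 inferInstance a b⟩⟩

/-- A Sylow subgroup of `G` is maximal, and meets `T` in a subgroup self-normalising in `T`. -/
theorem sylow_data (S : Sylow 2 G) : IsCoatom (S : Subgroup G) ∧
    ∀ x ∈ T, x ∈ normalizer ((((S : Subgroup G) ⊓ T) : Subgroup G) : Set G) → x ∈ (S : Subgroup G) := by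
  haveI : Fact (Nat.Prime 2) := ⟨Nat.prime_two⟩
  obtain ⟨P, hP⟩ := exists_sylow_normal S T
  obtain ⟨u, hu⟩ := exists_prime_orderOf_dvd_card' (G := (P : Subgroup T)) 2
    (P.dvd_card_of_dvd_card (even_card_socle hG T hna h2))
  have hne : (S : Subgroup G) ⊓ T ≠ ⊥ := fun e => by
    have hmem : ((u : T) : G) ∈ (S : Subgroup G) ⊓ T := ⟨(hP _).1 u.2, (u : T).2⟩
    rw [e, mem_bot] at hmem
    have hu1 : u = 1 := Subtype.ext (Subtype.ext hmem)
    rw [hu1, orderOf_one] at hu
    omega
  have hn : (S : Subgroup G) ≤ normalizer ((((S : Subgroup G) ⊓ T) : Subgroup G) : Set G) :=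
    fun s hs => mem_normalizer_of_conj fun x hx =>
      mem_inf.2 ⟨mul_mem (mul_mem hs (mem_inf.1 hx).1) (inv_mem hs),
        (inferInstance : T.Normal).conj_mem x (mem_inf.1 hx).2 s⟩
  obtain ⟨x, hx, hx1, hxc⟩ := CfsgLib.CNStructure.exists_fixed_of_normal hne inf_le_left hn S.2
  obtain ⟨k, hk⟩ := exists_orderOf_eq_two_pow S.2 hx.1
  obtain ⟨i, hi⟩ := exists_invol_pow hk hx1
  have hC : centralizer ({x ^ i} : Set G) = (S : Subgroup G) :=
    S.3 (h2 _ (pow_mem hx.2 i) hi)
      fun s hs => mem_centralizer_singleton_iff.2 ((hxc s hs).pow_right i).eq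
  have hco : IsCoatom (S : Subgroup G) := hC ▸ hG.coatom_centralizer hi
  refine ⟨hco, fun y _ hy => ?_⟩
  have := eq_of_coatom_le hco hn (hG.normalizer_ne_top
    (.of_isPGroup Nat.prime_two S.2.to_inf_left) hne)
  exact this ▸ hy

/-- A Sylow subgroup of `T` is self-normalising. -/
theorem normalizer_sylow (P : Sylow 2 T) :
    normalizer ((P : Subgroup T) : Set T) = (P : Subgroup T) := by
  refine le_antisymm (fun x hx => ?_) le_normalizer
  obtain ⟨S, hS⟩ := ((P.2.map T.subtype : IsPGroup 2 _)).exists_le_sylow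
  obtain ⟨P', hP'⟩ := exists_sylow_normal S T
  have hPP : (P' : Subgroup T) = P := P.3 P'.2 fun z hz => (hP' z).2 (hS ⟨z, hz, rfl⟩)
  rw [← hPP] at hx ⊢
  refine (hP' x).2 ((sylow_data hG T hna h2 S).2 x x.2 (mem_normalizer_of_conj fun z hz => ?_))
  obtain ⟨hzS, hzT⟩ := hz
  exact mem_inf.2 ⟨(hP' _).1 ((mem_normalizer_iff.1 hx ⟨z, hzT⟩).1 ((hP' _).2 hzS)),
    T.mul_mem (T.mul_mem x.2 hzT) (T.inv_mem x.2)⟩

/-- The socle is a group with two-group centralisers. -/
theorem isCIT_socle : IsCIT T := by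
  intro t ht
  refine CfsgLib.CITGroups.isPGroup_two_of_forall fun g hg hgo => Subtype.ext ?_
  exact CfsgLib.CITGroups.eq_one_of_odd_mem (h2 t t.2 (coe_orderOf_two.2 ht))
    (mem_centralizer_singleton_iff.2 (congrArg Subtype.val (mem_centralizer_singleton_iff.1 hg)))
    (by rwa [Subgroup.orderOf_coe])

/-- A four subgroup with an element of order three on it forces `G = T`. -/
theorem socle_eq_top {V : Subgroup T} (hV4 : Nat.card V = 4) (hVlt : 4 < Nat.card T)
    (hV2 : ∀ v ∈ V, v * v = 1) {y a : T} (hyV : y ∈ normalizer (V : Set T))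
    (haV : a ∈ normalizer (V : Set T)) (hy3 : orderOf y = 3) (hay : a * y * a⁻¹ = y⁻¹)
    (hfpf : ∀ v ∈ V, Commute y v → v = 1) (hao : a * a = 1) : T = ⊤ := by
  haveI : Fact (Nat.Prime 2) := ⟨Nat.prime_two⟩
  by_contra hT
  set W := V.map T.subtype with hW
  have hW4 : Nat.card W = 4 := by rw [card_map_of_injective T.subtype_injective, hV4]
  have hW2 : ∀ v ∈ W, v * v = 1 := by
    rintro _ ⟨v, hv, rfl⟩
    exact congrArg Subtype.val (hV2 v hv)
  have hWT : W ≤ T := map_subtype_le V
  have hyW : (y : G) ∈ normalizer (W : Set G) := le_normalizer_map T.subtype ⟨y, hyV, rfl⟩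
  have haW : (a : G) ∈ normalizer (W : Set G) := le_normalizer_map T.subtype ⟨a, haV, rfl⟩
  set y' : G := (y : G) with hy'
  set a' : G := (a : G) with ha'
  have hy'3 : orderOf y' = 3 := by rw [hy', Subgroup.orderOf_coe, hy3]
  have hy3' : y' * y' * y' = 1 := by rw [← pow_three', ← hy'3, pow_orderOf_eq_one]
  have hay' : a' * y' * a'⁻¹ = y'⁻¹ := congrArg Subtype.val hay
  have haa' : a' * a' = 1 := congrArg Subtype.val hao
  have hfpf' : ∀ v ∈ W, Commute y' v → v = 1 := by
    rintro _ ⟨v, hv, rfl⟩ hc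
    exact congrArg Subtype.val (hfpf v hv (Subtype.ext hc.eq))
  have hWc : ∀ u ∈ W, ∀ w ∈ W, u * w = w * u := fun u hu w hw => by
    rw [← inv_eq_of_mul_eq_one_right (hW2 _ (mul_mem hw hu)), mul_inv_rev,
      inv_eq_of_mul_eq_one_right (hW2 u hu), inv_eq_of_mul_eq_one_right (hW2 w hw)]
  -- a fixed point of `a`
  obtain ⟨v, hv, hv1, hav⟩ : ∃ v ∈ W, v ≠ 1 ∧ Commute a' v := by
    obtain ⟨w, hw, hw1⟩ := (W.bot_or_exists_ne_one).resolve_left fun e => by
      rw [e, card_bot] at hW4; omega
    by_cases hc : Commute a' w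
    · exact ⟨w, hw, hw1, hc⟩
    set w' := a' * w * a'⁻¹ with hw'def
    have hw'W : w' ∈ W := (mem_normalizer_iff.1 haW w).1 hw
    refine ⟨w' * w, mul_mem hw'W hw, fun e => hc ?_, ?_⟩
    · have : w' = w := by rw [eq_inv_of_mul_eq_one_left e, inv_eq_of_mul_eq_one_right (hW2 w hw)]
      exact mul_inv_eq_iff_eq_mul.1 this
    · have hbb : a' * w' * a'⁻¹ = w := by
        rw [hw'def, show a' * (a' * w * a'⁻¹) * a'⁻¹ = a' * a' * w * (a' * a')⁻¹ by group, haa',
          one_mul, inv_one, mul_one]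
      refine mul_inv_eq_iff_eq_mul.1 ?_
      rw [show a' * (w' * w) * a'⁻¹ = a' * w' * a'⁻¹ * (a' * w * a'⁻¹) by group, hbb, ← hw'def,
        hWc w hw w' hw'W]
  set v1 := y' * v * y'⁻¹ with hv1def
  set v2 := y' * v1 * y'⁻¹ with hv2def
  have hv1W : v1 ∈ W := (mem_normalizer_iff.1 hyW v).1 hv
  have hv2W : v2 ∈ W := (mem_normalizer_iff.1 hyW v1).1 hv1W
  have n1 : v1 ≠ 1 := fun e => hv1 (conj_eq_one_iff.1 e)
  have n2 : v2 ≠ 1 := fun e => n1 (conj_eq_one_iff.1 e)
  have d1 : v1 ≠ v := fun e => hv1 (hfpf' v hv (mul_inv_eq_iff_eq_mul.1 e))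
  have d2 : v2 ≠ v1 := fun e => d1 (mul_left_cancel (mul_right_cancel e))
  have hback : y' * v2 * y'⁻¹ = v := by
    calc y' * v2 * y'⁻¹ = y' * y' * y' * v * (y' * y' * y')⁻¹ := by rw [hv2def, hv1def]; group
      _ = v := by rw [hy3', one_mul, inv_one, mul_one]
  have d3 : v2 ≠ v := fun e => d1 (by
    calc v1 = y' * v2 * y'⁻¹ := by rw [e]
      _ = v := hback)
  have hall : ∀ w ∈ W, w = 1 ∨ w = v ∨ w = v1 ∨ w = v2 := by
    intro w hw
    by_contra hcon
    push Not at hcon
    obtain ⟨c1, c2, c3, c4⟩ := hcon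
    let f : Fin 5 → W := ![1, ⟨v, hv⟩, ⟨v1, hv1W⟩, ⟨v2, hv2W⟩, ⟨w, hw⟩]
    have hinj : Function.Injective f := by
      intro i j hij
      have := congrArg (fun u : W => (u : G)) hij
      fin_cases i <;> fin_cases j <;> first
        | rfl
        | exact absurd this hv1 | exact absurd this.symm hv1
        | exact absurd this n1 | exact absurd this.symm n1
        | exact absurd this n2 | exact absurd this.symm n2
        | exact absurd this d1 | exact absurd this.symm d1
        | exact absurd this d2 | exact absurd this.symm d2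
        | exact absurd this d3 | exact absurd this.symm d3
        | exact absurd this c1 | exact absurd this.symm c1
        | exact absurd this c2 | exact absurd this.symm c2
        | exact absurd this c3 | exact absurd this.symm c3
        | exact absurd this c4 | exact absurd this.symm c4
    have := Nat.card_le_card_of_injective f hinj
    rw [Nat.card_fin] at this
    omega
  have hav1 : a' * v1 * a'⁻¹ = v2 := by
    calc a' * v1 * a'⁻¹ = (a' * y' * a'⁻¹) * (a' * v * a'⁻¹) * (a' * y' * a'⁻¹)⁻¹ := by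
          rw [hv1def]; group
      _ = y'⁻¹ * v * y' := by rw [hay', hav.eq, mul_inv_cancel_right, inv_inv]
      _ = v2 := by
        calc y'⁻¹ * v * y' = y'⁻¹ * (y' * v2 * y'⁻¹) * y' := by rw [hback]
          _ = v2 := by group
  have hav2 : a' * v2 * a'⁻¹ = v1 := by
    calc a' * v2 * a'⁻¹ = a' * a' * v1 * (a' * a')⁻¹ := by rw [← hav1]; group
      _ = v1 := by rw [haa', one_mul, inv_one, mul_one]
  have hvo : orderOf v = 2 := orderOf_two_of_mul_self (hW2 v hv) hv1
  have hC2 : IsPGroup 2 (centralizer (W : Set G)) :=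
    (h2 v (hWT hv) hvo).to_le (centralizer_le (Set.singleton_subset_iff.2 hv))
  -- the centraliser lies in `T`
  have hCT : centralizer (W : Set G) ≤ T := by
    intro d hd
    by_contra hdT
    have hconjC : ∀ c ∈ centralizer (W : Set G), y' * c * y'⁻¹ ∈ centralizer (W : Set G) := by
      intro c hc
      refine mem_centralizer_iff.2 fun w hw => ?_
      have h := mem_centralizer_iff.1 hc _ ((mem_normalizer_iff''.1 hyW w).1 hw)
      calc w * (y' * c * y'⁻¹) = y' * ((y'⁻¹ * w * y') * c) * y'⁻¹ := by group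
        _ = y' * (c * (y'⁻¹ * w * y')) * y'⁻¹ := by rw [h]
        _ = y' * c * y'⁻¹ * w := by group
    let Ω := {x : G // x ∈ centralizer (W : Set G) ∧ d⁻¹ * x ∈ T}
    let f : Ω → Ω := fun x => ⟨y' * x.1 * y'⁻¹, hconjC _ x.2.1, by
      have h1 : d⁻¹ * (y' * x.1 * y'⁻¹) = (d⁻¹ * y' * d) * (d⁻¹ * x.1) * y'⁻¹ := by group
      rw [h1]
      refine mul_mem (mul_mem ?_ x.2.2) (inv_mem y.2)
      simpa using (inferInstance : T.Normal).conj_mem _ y.2 d⁻¹⟩
    have hinj : Function.Injective f := fun x z h =>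
      Subtype.ext (mul_left_cancel (mul_right_cancel (congrArg Subtype.val h)))
    let e : Equiv.Perm Ω := Equiv.ofBijective f (Finite.injective_iff_bijective.1 hinj)
    haveI := Fintype.ofFinite Ω
    haveI : Fact (Nat.Prime 3) := ⟨Nat.prime_three⟩
    have hcardΩ : Nat.card Ω = Nat.card ↥(T ⊓ centralizer (W : Set G)) := by
      refine Nat.card_congr
        { toFun := fun x => ⟨d⁻¹ * x.1, mem_inf.2 ⟨x.2.2, mul_mem (inv_mem hd) x.2.1⟩⟩
          invFun := fun c => ⟨d * c.1, mul_mem hd c.2.2, by rw [inv_mul_cancel_left]; exact c.2.1⟩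
          left_inv := fun x => Subtype.ext (mul_inv_cancel_left d x.1)
          right_inv := fun c => Subtype.ext (inv_mul_cancel_left d c.1) }
    obtain ⟨k, hk⟩ := IsPGroup.iff_card.1 (hC2.to_inf_right (H := T))
    rw [hk, Nat.card_eq_fintype_card] at hcardΩ
    have he3 : e ^ 3 = 1 := by
      refine Equiv.ext fun x => Subtype.ext ?_
      rw [pow_three']
      show y' * (y' * (y' * x.1 * y'⁻¹) * y'⁻¹) * y'⁻¹ = x.1
      calc y' * (y' * (y' * x.1 * y'⁻¹) * y'⁻¹) * y'⁻¹ = y' * y' * y' * x.1 * (y' * y' * y')⁻¹ := by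
            group
        _ = x.1 := by rw [hy3', one_mul, inv_one, mul_one]
    obtain ⟨x, hx⟩ := Equiv.Perm.exists_fixed_point_of_prime (p := 3) (n := 1) (σ := e)
      (by rw [hcardΩ]; exact fun h => by
            have := (Nat.prime_three).dvd_of_dvd_pow h
            norm_num at this)
      (by rwa [pow_one])
    have hxy : Commute y' x.1 := mul_inv_eq_iff_eq_mul.1 (congrArg Subtype.val hx : y' * x.1 * y'⁻¹ = x.1)
    have hx1 : x.1 ≠ 1 := fun e' => hdT (by
      have := inv_mem x.2.2
      rwa [e', mul_one, inv_inv] at this)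
    obtain ⟨i, hi⟩ := exists_orderOf_eq_two_pow hC2 x.2.1
    have hN := hG.normalizer_zpowers_eq Nat.prime_two Nat.prime_three (by norm_num) hi (j := 1)
      (by rw [hy'3, pow_one]) hx1 (fun e' => by rw [e', orderOf_one] at hy'3; omega) hxy.symm
    have hvN : v ∈ normalizer (zpowers x.1 : Set G) := mem_normalizer_of_conj (by
      rintro _ ⟨l, rfl⟩
      show v * x.1 ^ l * v⁻¹ ∈ zpowers x.1
      have hc : Commute v x.1 := mem_centralizer_iff.1 x.2.1 v hv
      rw [(hc.zpow_right l).eq, mul_inv_cancel_right]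
      exact zpow_mem (mem_zpowers _) l)
    rw [hN] at hvN
    set c := v * y' * v⁻¹ * y'⁻¹ with hc
    have h1 : c ∈ zpowers y' :=
      mul_mem ((mem_normalizer_iff.1 hvN y').1 (mem_zpowers y')) (inv_mem (mem_zpowers y'))
    have h2' : c ∈ W := by
      rw [hc, show v * y' * v⁻¹ * y'⁻¹ = v * (y' * v⁻¹ * y'⁻¹) by group]
      exact mul_mem hv ((mem_normalizer_iff.1 hyW _).1 (inv_mem hv))
    have h4 : orderOf c ∣ 3 := by
      rw [← hy'3, ← Nat.card_zpowers y', ← Subgroup.orderOf_mk c h1]
      exact orderOf_dvd_natCard _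
    have h5 : orderOf c ∣ 2 := orderOf_dvd_of_pow_eq_one (by rw [pow_two, hW2 c h2'])
    have hc1 : c = 1 :=
      orderOf_eq_one_iff.1 (Nat.eq_one_of_dvd_coprimes (by norm_num : Nat.Coprime 3 2) h4 h5)
    rw [hc, mul_inv_eq_one, mul_inv_eq_iff_eq_mul] at hc1
    exact hv1 (hfpf' v hv hc1.symm)
  -- so the normaliser lies in `T`
  have hNT : normalizer (W : Set G) ≤ T := by
    intro g hg
    have himg : ∀ {h : G}, h ∈ normalizer (W : Set G) → ∀ {u : G}, u ∈ W → u ≠ 1 →
        h * u * h⁻¹ = v ∨ h * u * h⁻¹ = v1 ∨ h * u * h⁻¹ = v2 := fun {h} hh {u} hu hu1 =>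
      (hall _ ((mem_normalizer_iff.1 hh u).1 hu)).resolve_left fun e => hu1 (conj_eq_one_iff.1 e)
    -- an element fixing `v` lies in `T`
    have hfix : ∀ {h : G}, h ∈ normalizer (W : Set G) → h * v * h⁻¹ = v → h ∈ T := by
      have hfix2 : ∀ {h : G}, h ∈ normalizer (W : Set G) → h * v * h⁻¹ = v → h * v1 * h⁻¹ = v1 →
          h ∈ T := by
        intro h hh hv' hv1'
        have hv2' : h * v2 * h⁻¹ = v2 := by
          rcases himg hh hv2W n2 with e | e | e
          · exact absurd (mul_left_cancel (mul_right_cancel (e.trans hv'.symm))) d3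
          · exact absurd (mul_left_cancel (mul_right_cancel (e.trans hv1'.symm))) d2
          · exact e
        refine hCT (mem_centralizer_iff.2 fun w hw => ?_)
        rcases hall w hw with rfl | rfl | rfl | rfl
        · rw [one_mul, mul_one]
        · exact (mul_inv_eq_iff_eq_mul.1 hv').symm
        · exact (mul_inv_eq_iff_eq_mul.1 hv1').symm
        · exact (mul_inv_eq_iff_eq_mul.1 hv2').symm
      intro h hh hv'
      rcases himg hh hv1W n1 with e | e | e
      · exact absurd (mul_left_cancel (mul_right_cancel (e.trans hv'.symm))) d1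
      · exact hfix2 hh hv' e
      · have := hfix2 (mul_mem haW hh)
          (by rw [show a' * h * v * (a' * h)⁻¹ = a' * (h * v * h⁻¹) * a'⁻¹ by group, hv', hav.eq,
            mul_inv_cancel_right])
          (by rw [show a' * h * v1 * (a' * h)⁻¹ = a' * (h * v1 * h⁻¹) * a'⁻¹ by group, e, hav2])
        exact (mul_mem_cancel_left a.2).1 this
    rcases himg hg hv hv1 with e | e | e
    · exact hfix hg e
    · have := hfix (mul_mem (mul_mem hyW hyW) hg) (by
        rw [show y' * y' * g * v * (y' * y' * g)⁻¹ = y' * (y' * (g * v * g⁻¹) * y'⁻¹) * y'⁻¹ by group,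
          e, ← hv2def, hback])
      exact (mul_mem_cancel_left (mul_mem y.2 y.2)).1 this
    · have := hfix (mul_mem hyW hg) (by
        rw [show y' * g * v * (y' * g)⁻¹ = y' * (g * v * g⁻¹) * y'⁻¹ by group, e, hback])
      exact (mul_mem_cancel_left y.2).1 this
  have hco := hG.coatom W (.of_isPGroup Nat.prime_two (IsPGroup.of_card (n := 2) (by rw [hW4]; norm_num)))
    fun e => by rw [e, card_bot] at hW4; omega
  have heq := eq_of_coatom_le hco hNT hT
  haveI hVn : V.Normal := ⟨fun u hu g => by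
    have hg : (g : G) ∈ normalizer (W : Set G) := heq.symm ▸ g.2
    obtain ⟨w, hw, hwe⟩ := (mem_normalizer_iff.1 hg _).1 (⟨u, hu, rfl⟩ : (u : G) ∈ W)
    exact (Subtype.ext hwe : w = g * u * g⁻¹) ▸ hw⟩
  rcases hVn.eq_bot_or_eq_top with e | e
  · rw [e, card_bot] at hV4; omega
  · rw [e, card_top] at hV4; omega

omit h2 in
/-- The hypothesis is not satisfied when `G = T` is a simple group with two-group centralisers. -/
theorem false_of_twoFrame (hT : T = ⊤) (h : IsCIT T) (M : MaxPair T) (V : Subgroup T)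
    (F : CfsgLib.CITGroups.TwoFrame M V) {y : T} (hyV : y ∈ normalizer (V : Set T))
    (hy3 : orderOf y = 3) (hco : ∀ S : Sylow 2 T, IsCoatom (S : Subgroup T)) : False := by
  haveI : Fact (Nat.Prime 2) := ⟨Nat.prime_two⟩
  have hTG : MN T := hG.of_equiv ((topEquiv).symm.trans (MulEquiv.subgroupCongr hT.symm))
  have hna' : ∃ a b : T, a * b ≠ b * a := by
    by_contra hcon
    push Not at hcon
    exact hna ⟨⟨hcon⟩⟩
  obtain ⟨S, V', hV'S, hV'4, hV'2, hV'c, hS8⟩ := F.exists_four hna'
  obtain ⟨Fd, fF, tF, hodd, ⟨e⟩⟩ :=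
    CfsgLib.CITGroups.psl_of_four h hna' S V' hV'S hV'4 hV'2 hV'c hS8
  obtain ⟨n, hn⟩ := IsPGroup.iff_card.1 S.2
  rcases Nat.lt_or_ge n 4 with h4 | h4
  · -- a four group of index two in a Sylow subgroup
    have hV4 := F.card_V
    obtain ⟨R, hR⟩ := (IsPGroup.of_card (p := 2) (n := 2) (by rw [hV4]; norm_num) :
      IsPGroup 2 V).exists_le_sylow
    have hR8 : Nat.card (R : Subgroup T) = 8 := by
      have : n = 3 := by
        have : 2 ^ 3 ≤ 2 ^ n := hn ▸ hS8
        have := (Nat.pow_le_pow_iff_right (by norm_num : 1 < 2)).1 this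
        omega
      rw [R.card_eq_multiplicity, ← S.card_eq_multiplicity, hn, this]
      norm_num
    have hidx : (V.subgroupOf (R : Subgroup T)).index = 2 := by
      have h1 := (V.subgroupOf (R : Subgroup T)).card_mul_index
      rw [Nat.card_congr (subgroupOfEquivOfLe hR).toEquiv, hV4, hR8] at h1
      omega
    haveI := normal_of_index_eq_two hidx
    have hRN : (R : Subgroup T) ≤ normalizer (V : Set T) :=
      (normal_subgroupOf_iff_le_normalizer hR).1 inferInstance
    have hne : normalizer (V : Set T) ≠ ⊤ := hTG.normalizer_ne_top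
      (.of_isPGroup Nat.prime_two (IsPGroup.of_card (n := 2) (by rw [hV4]; norm_num)))
      fun e => by rw [e, card_bot] at hV4; omega
    have heq := eq_of_coatom_le (hco R) hRN hne
    have := CfsgLib.CITGroups.eq_one_of_odd_mem R.2 (heq.symm ▸ hyV) (by rw [hy3]; decide)
    rw [this, orderOf_one] at hy3
    omega
  · -- a torus of odd order divisible by three
    have h16 : 16 ∣ Nat.card (Matrix.ProjectiveSpecialLinearGroup (Fin 2) Fd) := by
      rw [← Nat.card_congr e.toEquiv]
      exact ((show 16 ∣ 2 ^ n from pow_dvd_pow 2 h4).trans (hn ▸ dvd_refl _)).trans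
        (S : Subgroup T).card_subgroup_dvd_card
    have hcard := CfsgLib.Linear.card_PSL_two_odd (F := Fd) hodd
    have hP := hTG.of_equiv e
    set q := Fintype.card Fd with hqdef
    have hq1 : 1 < q := Fintype.one_lt_card
    have hqF := CfsgLib.CITGroups.card_of_isCIT (CfsgLib.CITGroups.four_le_card hna e) (h.of_equiv e)
    rw [← hqdef] at hqF
    have hqp : q.Prime := by
      rcases hqF with h9 | ⟨m, hm⟩ | ⟨hqp, -⟩
      · exfalso
        rw [h9] at hcard
        norm_num at hcard
        omega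
      · exfalso
        rw [hm] at hodd hq1
        rcases m with - | m
        · simp at hq1
        · exact Nat.not_even_iff_odd.2 hodd ((Nat.even_pow' (Nat.succ_ne_zero m)).2 even_two)
      · exact hqp
    have hq9 : 9 < q := by
      by_contra hle
      push Not at hle
      obtain ⟨c, hc⟩ := h16
      rw [hc] at hcard
      revert hcard hqp hle hq1
      generalize q = Q
      intro hq1 hle hqp hcard
      interval_cases Q <;> norm_num at * <;> omega
    have hgcd : Nat.gcd 2 (q - 1) = 2 := by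
      obtain ⟨k, hk⟩ := hodd
      exact Nat.gcd_eq_left ⟨k, by omega⟩
    have h3q : q % 3 ≠ 0 := fun e3 => by
      have := (Nat.prime_dvd_prime_iff_eq Nat.prime_three hqp).1 (Nat.dvd_of_mod_eq_zero e3)
      omega
    obtain ⟨k, hk⟩ : ∃ k : ℕ, q = 2 ^ k + 1 ∨ q + 1 = 2 ^ k := by
      rcases hqF with h9 | ⟨m, hm⟩ | ⟨-, hk⟩
      · omega
      · exfalso
        rw [hm] at hodd hq1
        rcases m with - | m
        · simp at hq1
        · exact Nat.not_even_iff_odd.2 hodd ((Nat.even_pow' (Nat.succ_ne_zero m)).2 even_two)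
      · exact hk
    have hk3 : 2 ^ k % 3 ≠ 0 := fun e3 => by
      have := Nat.prime_three.dvd_of_dvd_pow (Nat.dvd_of_mod_eq_zero e3)
      norm_num at this
    have hk4 : 2 ^ k % 4 = 0 := by
      rcases Nat.lt_or_ge k 2 with h' | h'
      · interval_cases k <;> omega
      · exact Nat.mod_eq_zero_of_dvd (show 2 ^ 2 ∣ 2 ^ k from pow_dvd_pow 2 h')
    have key : ∀ x : Matrix.ProjectiveSpecialLinearGroup (Fin 2) Fd, CfsgLib.DicksonPSL2.IsTor x →
        ∀ m, Nat.card (CfsgLib.DicksonPSL2.torus x) = m → m % 2 = 1 → m % 3 = 0 → m = 3 := by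
      intro x hx m hm hm2 hm3
      have hp := prime_card_torus hP hx (hm ▸ Nat.odd_iff.2 hm2)
      rw [hm] at hp
      exact ((Nat.prime_dvd_prime_iff_eq Nat.prime_three hp).1 (Nat.dvd_of_mod_eq_zero hm3)).symm
    rcases hk with hk | hk
    · obtain ⟨x, hx, hxc, -⟩ := CfsgLib.DicksonPSL2.exists_torus_plus Fd
      rw [← hqdef, hgcd] at hxc
      have h12 : 2 ^ k % 12 = 4 := by omega
      have := key x hx _ rfl (by omega) (by omega)
      omega
    · obtain ⟨x, hx, -, hxc⟩ := CfsgLib.DicksonPSL2.exists_torus_minus Fd (by omega)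
      rw [← hqdef, hgcd] at hxc
      have h3k : 2 ^ k % 3 = 2 := by omega
      have h12 : 2 ^ k % 12 = 8 := by omega
      have := key x hx _ rfl (by omega) (by omega)
      omega

/-- Some involution of `T` has a centraliser which is not a two-group. -/
theorem false_of_two_centralizers : False := by
  classical
  haveI : Fact (Nat.Prime 2) := ⟨Nat.prime_two⟩
  have h := isCIT_socle hG T hna h2
  have hev := even_card_socle hG T hna h2
  by_cases hno : ∀ S₁ S₂ : Sylow 2 T, (S₁ : Subgroup T) ⊓ S₂ ≠ ⊥ →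
      JT (S₁ : Subgroup T) = JT (S₂ : Subgroup T)
  · obtain ⟨L, hL2, hL1, hSE⟩ := CfsgLib.CITGroups.stronglyEmbedded_of_noPair hna hev hno
    obtain ⟨S, D⟩ := CfsgLib.CITGroups.exists_sylowSE h hSE le_normalizer le_rfl hL2 hL1
    set SS : Sylow 2 T := ⟨S, D.two, fun {P} hP hle => D.maximal P hP hle⟩
    have hN := normalizer_sylow hG T hna h2 SS
    rw [show normalizer ((SS : Subgroup T) : Set T) = normalizer (L : Set T) from D.normalizer_eq]
      at hN
    obtain ⟨t0, ht0⟩ := exists_prime_orderOf_dvd_card' (G := (SS : Subgroup T)) 2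
      (SS.dvd_card_of_dvd_card hev)
    have htS : (t0 : T) ∈ S := t0.2
    have ht : orderOf (t0 : T) = 2 := by rw [Subgroup.orderOf_coe, ht0]
    obtain ⟨u, hu, huo, hne⟩ := exists_second_invol hna SS ht
    have hSL : S ≤ normalizer (L : Set T) := hN.ge
    obtain ⟨m, hm, hmu⟩ := D.conj _ (hSL htS) u (hSL hu) ht huo
    refine hne (hmu.symm.trans ?_)
    rw [(D.invol_central _ htS ht m (hN.le hm)).eq, mul_inv_cancel_right]
  · push Not at hno
    obtain ⟨S₁, S₂, h1, h2'⟩ := hno
    obtain ⟨M⟩ := CfsgLib.EPPOSeven.exists_maxPair h1 h2'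
    have L := CfsgLib.CITGroups.localData h M
    have hna' : ∃ a b : T, a * b ≠ b * a := by
      by_contra hcon
      push Not at hcon
      exact hna ⟨⟨hcon⟩⟩
    rcases CfsgLib.CITGroups.four_le_or_two (CfsgLib.CITGroups.fixT M)
      ((M.D_isPGroup.to_le (CfsgLib.CITGroups.omegaCentral_le M.D)).to_le inf_le_left) L.one_lt
      with hq | hq
    · set V := omegaCentral M.D with hV
      have F := CfsgLib.CITGroups.twoFrame h M hq
      obtain ⟨a, haT, haD, hao⟩ : ∃ a ∈ M.T, a ∉ M.D ∧ orderOf a = 2 := by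
        obtain ⟨A, ⟨hAT, hAea, -⟩, hAD⟩ := F.exists_maxEA
        obtain ⟨a, haA, haD⟩ := SetLike.not_le_iff_exists.1 hAD
        exact ⟨a, hAT haA, haD, orderOf_two_of_mul_self (by rw [← pow_two]; exact hAea.2 a haA)
          fun e => haD (e ▸ one_mem _)⟩
      obtain ⟨y, hyN, hy3, hay, hyf⟩ := (F.outer_and_omega haT haD hao).exists_y
      have hyV := F.normal_V hyN
      have haV := F.normal_V ((inf_le_right : M.T ≤ M.N) haT)
      obtain ⟨S, V', -, -, -, -, hS8⟩ := F.exists_four hna'
      have hlt : 4 < Nat.card T :=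
        lt_of_lt_of_le (by norm_num) (hS8.trans (card_le_card_group (S : Subgroup T)))
      have hT := socle_eq_top hG T hna h2 F.card_V hlt (fun v hv => (F.central v hv).1) hyV haV hy3 hay
        (fun v hv hc => hyf v (F.le_D hv) hc) (mul_self_of_orderOf_two hao)
      refine false_of_twoFrame hG T hna hT h M V F hyV hy3 fun R => ?_
      subst hT
      have hm := R.2.map (topEquiv (G := G)).toMonoidHom
      obtain ⟨RG, hRG⟩ := hm.exists_le_sylow
      have heq : (R : Subgroup _).map (topEquiv (G := G)).toMonoidHom = RG := by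
        refine le_antisymm hRG fun x hx => ⟨⟨x, mem_top x⟩, ?_, rfl⟩
        have h' := R.3 (RG.2.comap_of_injective (topEquiv (G := G)).toMonoidHom topEquiv.injective)
          (fun z hz => hRG ⟨z, hz, rfl⟩)
        exact h' ▸ hx
      have hco := (sylow_data hG ⊤ hna h2 RG).1
      rw [← heq] at hco
      exact ((MulEquiv.mapSubgroup (topEquiv (G := G))).isCoatom_iff _).1 hco
    · obtain ⟨T2, V, A, F⟩ := CfsgLib.CITGroups.fourFrame_of_maxPair hna' h M hq
      have hp : IsPGroup 2 T2 := IsPGroup.of_card (n := 6) (by rw [F.card_T]; norm_num)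
      let SS : Sylow 2 T := hp.toSylow fun h' => Nat.not_even_iff_odd.2 F.odd_index (even_iff_two_dvd.2 h')
      have hN := normalizer_sylow hG T hna h2 SS
      have h1 := F.card_normalizer_T
      rw [show normalizer (T2 : Set T) = T2 from hN, F.card_T] at h1
      omega

end CfsgLib.MaxNormalizer
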