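import Cfsg.Agent.MaxNormalizer.SylowCase
import Cfsg.Agent.MaxNormalizer.TwoCentralizers
import Cfsg.Agent.MinNormal.Factors

/-!
# A group without solvable radical and with maximal normalisers is `PSL(2, 13)`
-/

set_option autoImplicit false
set_option linter.style.haveILetI false
set_option linter.unusedSectionVars false

namespace CfsgLib.MaxNormalizer

open Subgroup

variable {G : Type*} [Group G] [Finite G]

/-- No nontrivial element commutes with a nonabelian simple subgroup. -/
theorem MN.eq_one_of_commute_simple (hG : MN G) {T : Subgroup G} [IsSimpleGroup T]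
    (hna : ¬ IsMulCommutative T) {z : G} (hz : ∀ x ∈ T, Commute x z) : z = 1 := by
  by_contra hz1
  obtain ⟨q, hq, hqd⟩ := Nat.exists_prime_and_dvd (fun e => hz1 (orderOf_eq_one_iff.1 e))
  haveI := Fact.mk hq
  set w := z ^ (orderOf z / q) with hw
  have hwo : orderOf w = q := orderOf_pow_orderOf_div (orderOf_pos z).ne' hqd
  obtain ⟨p, hp, hpd, hpq⟩ : ∃ p : ℕ, p.Prime ∧ p ∣ Nat.card T ∧ p ≠ q := by
    by_contra hcon
    push Not at hcon
    have h := Nat.eq_prime_pow_of_unique_prime_dvd (Nat.card_pos (α := T)).ne' fun {r} hr hrd => hcon r hr hrd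
    haveI := (IsPGroup.of_card h : IsPGroup q T).isNilpotent
    exact hna ⟨⟨fun a b => IsSimpleGroup.comm_iff_isSolvable.2 inferInstance a b⟩⟩
  haveI := Fact.mk hp
  obtain ⟨x, hx⟩ := exists_prime_orderOf_dvd_card' (G := T) p hpd
  have hxo : orderOf (x : G) = p := by rw [Subgroup.orderOf_coe, hx]
  have hN := hG.normalizer_zpowers_eq hp hq hpq (i := 1) (j := 1) (by rw [pow_one, hxo])
    (by rw [pow_one, hwo]) (ne_one_of_prime hp hxo) (ne_one_of_prime hq hwo)
    ((hz x x.2).pow_right _)
  have hTN : T ≤ normalizer (zpowers (x : G) : Set G) := fun u hu => by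
    rw [hN]
    refine mem_normalizer_of_conj ?_
    rintro _ ⟨i, rfl⟩
    show u * w ^ i * u⁻¹ ∈ zpowers w
    rw [(((hz u hu).pow_right _).zpow_right i).eq, mul_inv_cancel_right]
    exact zpow_mem (mem_zpowers w) i
  have hn : ((zpowers (x : G)).subgroupOf T).Normal := ⟨fun a ha g => by
    rw [mem_subgroupOf] at ha ⊢
    exact (mem_normalizer_iff.1 (hTN g.2) _).1 ha⟩
  rcases hn.eq_bot_or_eq_top with e | e
  · have h1 : x ∈ (⊥ : Subgroup T) := e ▸ mem_subgroupOf.2 (mem_zpowers (x : G))
    rw [mem_bot.1 h1, orderOf_one] at hx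
    exact hp.ne_one hx.symm
  · refine hna ⟨⟨fun a b => ?_⟩⟩
    obtain ⟨i, hi⟩ := subgroupOf_eq_top.1 e a.2
    obtain ⟨j, hj⟩ := subgroupOf_eq_top.1 e b.2
    refine Subtype.ext ?_
    show (a : G) * b = b * a
    rw [← show (x : G) ^ i = a from hi, ← show (x : G) ^ j = b from hj]
    exact ((Commute.refl (x : G)).zpow_zpow i j).eq

/-- A normal nonabelian simple subgroup. -/
theorem MN.exists_simple_normal (hG : MN G) :
    ∃ T : Subgroup G, T.Normal ∧ IsSimpleGroup T ∧ ¬ IsMulCommutative T := by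
  haveI := hG.nontriv
  obtain ⟨M, hM, -⟩ := MinNormal.exists_isMinNormal_le (⊤ : Subgroup G) top_ne_bot
  haveI := hM.normal
  have hMnc : ¬ IsMulCommutative M := fun h => hM.ne_bot
    (hG.radical M hM.normal (Group.isSolvable_of_comm fun a b => h.is_comm.comm a b))
  obtain ⟨T, hT⟩ := MinNormal.exists_isFactor hM
  haveI := hT.isSimpleGroup hM
  have hTM : T = M := by
    by_contra hne
    obtain ⟨g, hg⟩ : ∃ g : G, T.map (MulAut.conj g).toMonoidHom ≠ T := by
      by_contra hall
      push Not at hall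
      refine hne (le_antisymm hT.le ?_)
      rw [← MinNormal.iSup_factor_eq hM hT]
      exact iSup_le fun g => (hall g).le
    have hU := hT.conj hM g
    refine hU.ne_bot ((eq_bot_iff_forall _).2 fun v hv =>
      hG.eq_one_of_commute_simple (hT.not_commutative hM hMnc) fun u hu => hT.commute hU (Ne.symm hg) hu hv)
  subst hTM
  exact ⟨T, hM.normal, inferInstance, hT.not_commutative hM hMnc⟩

/-- The group is simple of order `1092`. -/
theorem MN.simple_card (hG : MN G) : IsSimpleGroup G ∧ Nat.card G = 1092 := by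
  obtain ⟨T, hTn, hTs, hna⟩ := hG.exists_simple_normal
  haveI := hTn
  haveI := hTs
  by_cases h : ∃ t ∈ T, orderOf t = 2 ∧ HasOdd t
  · obtain ⟨t, htT, ht, hodd⟩ := h
    obtain ⟨hTtop, ⟨F, fF, tF, hFodd, ⟨e⟩⟩, hC⟩ := psl_of_hasOdd hG T hna ht htT hodd
    refine ⟨?_, ?_⟩
    · subst hTtop
      exact (Subgroup.topEquiv (G := G)).symm.isSimpleGroup
    · obtain ⟨r, hr, hr2, hrC⟩ := hC t ht
      have h13 : Fintype.card F = 13 := card_eq_thirteen (hG.of_equiv e) hFodd
        (j := e t) (by rw [MulEquiv.orderOf_eq, ht]) hr hr2 (by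
          rw [← hrC]
          refine (Nat.card_congr (e.toEquiv.subtypeEquiv fun x => ?_)).symm
          rw [mem_centralizer_singleton_iff, mem_centralizer_singleton_iff, MulEquiv.toEquiv_eq_coe,
            MulEquiv.coe_toEquiv, ← map_mul, ← map_mul]
          exact e.injective.eq_iff.symm)
      have hc := CfsgLib.Linear.card_PSL_two_odd (F := F) hFodd
      rw [h13, ← Nat.card_congr e.toEquiv] at hc
      omega
  · exfalso
    push Not at h
    exact false_of_two_centralizers hG T hna fun t htT ht => isPGroup_of_not_hasOdd (h t htT ht)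

end CfsgLib.MaxNormalizer
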