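import Cfsg.Agent.MaxNormalizer.Basic

/-!
# The centraliser of an involution which is not a two-group

`InE t u`: `u` is a central element of square one of `C(t)`. An involution of `C(t)` outside inverts
every element of odd prime order; then the odd part has prime order, a two-subgroup is abelian and
the central elements of square one are `1` and `t`.
-/

set_option autoImplicit false
set_option linter.style.haveILetI false
set_option linter.unusedSectionVars false

namespace CfsgLib.MaxNormalizer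

open Subgroup
open CfsgLib.Small (mul_self_of_orderOf_two ne_one_of_orderOf_two orderOf_conj_eq)
open CfsgLib.CITGroups (exists_orderOf_eq_two_pow orderOf_two_of_mul_self eq_one_of_odd_two_pow)

variable {G : Type*} [Group G] [Finite G]

/-- An element of odd prime order. -/
def OddEl (x : G) : Prop := ∃ p : ℕ, p.Prime ∧ p ≠ 2 ∧ orderOf x = p

/-- The centraliser of `t` is not a two-group. -/
def HasOdd (t : G) : Prop := ∃ y ∈ centralizer ({t} : Set G), OddEl y

/-- Central elements of square one of the centraliser of `t`. -/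
def InE (t u : G) : Prop :=
  u ∈ centralizer ({t} : Set G) ∧ u * u = 1 ∧ ∀ m ∈ centralizer ({t} : Set G), Commute m u

theorem OddEl.ne_one {x : G} (h : OddEl x) : x ≠ 1 := by
  obtain ⟨p, hp, -, hx⟩ := h
  exact ne_one_of_prime hp hx

theorem OddEl.odd {x : G} (h : OddEl x) : Odd (orderOf x) := by
  obtain ⟨p, hp, h2, hx⟩ := h
  exact hx ▸ hp.odd_of_ne_two h2

theorem OddEl.eq_one_of_mul_self {x z : G} (h : OddEl x) (hz : z ∈ zpowers x) (h2 : z * z = 1) :
    z = 1 := by
  refine orderOf_eq_one_iff.1 ?_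
  have h1 : orderOf z ∣ 2 := orderOf_dvd_of_pow_eq_one (by rw [pow_two, h2])
  have h3 : orderOf z ∣ orderOf x := by
    rw [← Nat.card_zpowers x, ← Subgroup.orderOf_mk z hz]
    exact orderOf_dvd_natCard _
  exact Nat.eq_one_of_dvd_coprimes h.odd.coprime_two_left h1 h3

theorem OddEl.zpowers_eq {x z : G} (h : OddEl x) (hz : z ∈ zpowers x) (h1 : z ≠ 1) :
    zpowers z = zpowers x := by
  obtain ⟨p, hp, -, hx⟩ := h
  refine eq_of_le_of_card_ge (zpowers_le.2 hz) ?_
  rw [Nat.card_zpowers, Nat.card_zpowers, hx]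
  have h3 : orderOf z ∣ p := by
    rw [← hx, ← Nat.card_zpowers x, ← Subgroup.orderOf_mk z hz]
    exact orderOf_dvd_natCard _
  rcases hp.eq_one_or_self_of_dvd _ h3 with e | e
  · exact absurd (orderOf_eq_one_iff.1 e) h1
  · exact e.ge

/-- An element of order a power of two is a power of any odd power of itself. -/
theorem mem_zpowers_sq_of_odd {n : G} (h : Odd (orderOf n)) : n ∈ zpowers (n * n) := by
  obtain ⟨k, hk⟩ := h
  refine ⟨(k + 1 : ℕ), ?_⟩
  show (n * n) ^ ((k + 1 : ℕ) : ℤ) = n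
  rw [zpow_natCast, ← pow_two, ← pow_mul, show 2 * (k + 1) = orderOf n + 1 by omega, pow_succ,
    pow_orderOf_eq_one, one_mul]

/-- The two and odd parts of an element. -/
theorem exists_parts (m : G) : ∃ a b : G, a ∈ zpowers m ∧ b ∈ zpowers m ∧ (∃ k, orderOf a = 2 ^ k) ∧
    Odd (orderOf b) ∧ m = a * b := by
  obtain ⟨k, o, ho, hm⟩ := Nat.exists_eq_two_pow_mul_odd (orderOf_pos m).ne'
  have hcop : Nat.gcd o (2 ^ k) = 1 := ho.coprime_two_right.pow_right k
  have hb : (1 : ℤ) = o * Nat.gcdA o (2 ^ k) + (2 ^ k : ℕ) * Nat.gcdB o (2 ^ k) := by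
    rw [← Nat.gcd_eq_gcd_ab, hcop, Nat.cast_one]
  refine ⟨m ^ ((o : ℤ) * Nat.gcdA o (2 ^ k)), m ^ (((2 ^ k : ℕ) : ℤ) * Nat.gcdB o (2 ^ k)),
    zpow_mem (mem_zpowers m) _, zpow_mem (mem_zpowers m) _, ?_, ?_, ?_⟩
  · have h1 : (m ^ ((o : ℤ) * Nat.gcdA o (2 ^ k))) ^ 2 ^ k = 1 := by
      rw [← zpow_natCast, ← zpow_mul, mul_comm, ← mul_assoc, ← Nat.cast_mul, ← hm, zpow_mul,
        zpow_natCast, pow_orderOf_eq_one, one_zpow]
    obtain ⟨j, -, hj⟩ := (Nat.dvd_prime_pow Nat.prime_two).1 (orderOf_dvd_of_pow_eq_one h1)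
    exact ⟨j, hj⟩
  · have h1 : (m ^ (((2 ^ k : ℕ) : ℤ) * Nat.gcdB o (2 ^ k))) ^ o = 1 := by
      rw [← zpow_natCast, ← zpow_mul, mul_comm, ← mul_assoc, ← Nat.cast_mul, mul_comm o, ← hm,
        zpow_mul, zpow_natCast, pow_orderOf_eq_one, one_zpow]
    exact Odd.of_dvd_nat ho (orderOf_dvd_of_pow_eq_one h1)
  · rw [← zpow_add, ← hb, zpow_one]

variable (hG : MN G) {t : G} (ht : orderOf t = 2)
include hG ht

set_option quotPrecheck false in
local notation "M" => centralizer ({t} : Set G)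

theorem inE_self : InE t t :=
  ⟨mem_centralizer_singleton_iff.2 rfl, mul_self_of_orderOf_two ht,
    fun _ hm => mem_centralizer_singleton_iff.1 hm⟩

theorem inE_mul {u v : G} (hu : InE t u) (hv : InE t v) : InE t (u * v) :=
  ⟨mul_mem hu.1 hv.1, by rw [show u * v * (u * v) = u * (v * u) * v by group, ← (hv.2.2 u hu.1).eq,
      show u * (u * v) * v = u * u * (v * v) by group, hu.2.1, hv.2.1, one_mul],
    fun m hm => (hu.2.2 m hm).mul_right (hv.2.2 m hm)⟩

theorem normalizer_of_oddPow {x : G} {p i : ℕ} (hp : p.Prime) (hp2 : p ≠ 2)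
    (hx : orderOf x = p ^ i) (hx1 : x ≠ 1) (hxM : x ∈ M) :
    normalizer (zpowers x : Set G) = M := by
  rw [← normalizer_zpowers_invol ht]
  exact hG.normalizer_zpowers_eq hp Nat.prime_two hp2 hx (j := 1) (by rw [ht, pow_one]) hx1
    (ne_one_of_orderOf_two ht) (mem_centralizer_singleton_iff.1 hxM)

theorem normalizer_oddEl {x : G} (hx : OddEl x) (hxM : x ∈ M) :
    normalizer (zpowers x : Set G) = M := by
  obtain ⟨p, hp, h2, ho⟩ := id hx
  exact normalizer_of_oddPow hG ht hp h2 (i := 1) (by rw [pow_one, ho]) hx.ne_one hxM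

theorem conj_mem_zpowers {x m : G} (hx : OddEl x) (hxM : x ∈ M) (hm : m ∈ M) :
    m * x * m⁻¹ ∈ zpowers x := by
  rw [← normalizer_oddEl hG ht hx hxM] at hm
  exact (mem_normalizer_iff.1 hm x).1 (mem_zpowers x)

theorem inE_centralizer {u : G} (hu : InE t u) (h1 : u ≠ 1) : centralizer ({u} : Set G) = M := by
  refine (eq_of_coatom_le (hG.coatom_centralizer ht)
    (fun m hm => mem_centralizer_singleton_iff.2 (hu.2.2 m hm).eq) ?_).symm
  exact (hG.coatom_centralizer (orderOf_two_of_mul_self hu.2.1 h1)).1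

/-- An involution of `C(t)` commuting with an element of odd prime order is central. -/
theorem inE_of_commute {u x : G} (huo : orderOf u = 2) (huM : u ∈ M) (hx : OddEl x) (hxM : x ∈ M)
    (hc : Commute x u) : InE t u := by
  refine ⟨huM, mul_self_of_orderOf_two huo, fun m hm => ?_⟩
  obtain ⟨p, hp, h2, ho⟩ := id hx
  have h := hG.normalizer_zpowers_eq hp Nat.prime_two h2 (i := 1) (by rw [pow_one, ho]) (j := 1)
    (by rw [huo, pow_one]) hx.ne_one (ne_one_of_orderOf_two huo) hc
  rw [normalizer_oddEl hG ht hx hxM, normalizer_zpowers_invol huo] at h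
  rw [h] at hm
  exact mem_centralizer_singleton_iff.1 hm

/-- A two-element with a central involution among its powers centralises the odd elements. -/
theorem commute_of_inE_pow {g x : G} {k n : ℕ} (hgM : g ∈ M) (hg : orderOf g = 2 ^ k)
    (hn : orderOf (g ^ n) = 2) (hE : InE t (g ^ n)) (hx : OddEl x) (hxM : x ∈ M) : Commute g x := by
  have hg1 : g ≠ 1 := fun e => by rw [e, one_pow, orderOf_one] at hn; omega
  have hle : normalizer (zpowers g : Set G) ≤ M := by
    rw [← inE_centralizer hG ht hE (ne_one_of_orderOf_two hn)]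
    intro m hm
    refine mem_centralizer_singleton_iff.2 (mul_inv_eq_iff_eq_mul.1 ?_)
    refine invol_unique_zpowers (g := g) ((mem_normalizer_iff.1 hm _).1 (pow_mem (mem_zpowers g) n))
      (pow_mem (mem_zpowers g) n) (by rw [orderOf_conj_eq, hn]) hn
  have heq : normalizer (zpowers g : Set G) = M :=
    eq_of_coatom_le (hG.coatom _ (.of_isPGroup Nat.prime_two (isPGroup_zpowers hg))
      (zpowers_ne_bot' hg1)) hle (hG.coatom_centralizer ht).1
  have h1 : g * x * g⁻¹ * x⁻¹ ∈ zpowers x :=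
    mul_mem (conj_mem_zpowers hG ht hx hxM hgM) (inv_mem (mem_zpowers x))
  have h2 : g * x * g⁻¹ * x⁻¹ ∈ zpowers g := by
    rw [show g * x * g⁻¹ * x⁻¹ = g * (x * g⁻¹ * x⁻¹) by group]
    refine mul_mem (mem_zpowers g) ?_
    have hxN : x ∈ normalizer (zpowers g : Set G) := by rw [heq]; exact hxM
    exact (mem_normalizer_iff.1 hxN _).1 (inv_mem (mem_zpowers g))
  have h3 : g * x * g⁻¹ * x⁻¹ = 1 := by
    obtain ⟨p, hp, h2', ho⟩ := id hx
    haveI := Fact.mk hp
    haveI : Fact (Nat.Prime 2) := ⟨Nat.prime_two⟩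
    have hd := IsPGroup.disjoint_of_ne 2 p (Ne.symm h2') _ _ (isPGroup_zpowers hg)
      (isPGroup_zpowers (k := 1) (by rw [pow_one, ho]) : IsPGroup p (zpowers x))
    exact mem_bot.1 (hd.eq_bot ▸ ⟨h2, h1⟩)
  rw [mul_inv_eq_one, mul_inv_eq_iff_eq_mul] at h3
  exact h3

/-- Conversely. -/
theorem exists_inE_pow {g x : G} {k : ℕ} (hgM : g ∈ M) (hg : orderOf g = 2 ^ k) (hg1 : g ≠ 1)
    (hx : OddEl x) (hxM : x ∈ M) (hc : Commute g x) :
    ∃ n : ℕ, orderOf (g ^ n) = 2 ∧ InE t (g ^ n) := by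
  obtain ⟨n, hn⟩ := exists_invol_pow hg hg1
  exact ⟨n, hn, inE_of_commute hG ht hn (pow_mem hgM n) hx hxM (hc.pow_left n).symm⟩

section Outer

variable {a : G} (ha : orderOf a = 2) (haM : a ∈ centralizer ({t} : Set G)) (haE : ¬ InE t a)
include ha haM haE

theorem inverts {x : G} (hx : OddEl x) (hxM : x ∈ M) : a * x * a⁻¹ = x⁻¹ := by
  have haa := mul_self_of_orderOf_two ha
  have hai : a⁻¹ = a := inv_eq_of_mul_eq_one_right haa
  set w := a * x * a⁻¹ with hw
  have hwx : w ∈ zpowers x := conj_mem_zpowers hG ht hx hxM haM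
  have hwx' : Commute w x := by
    obtain ⟨i, hi⟩ := hwx
    rw [← hi]
    exact (Commute.refl x).zpow_left i
  have hfix : a * (x * w) * a⁻¹ = x * w := by
    calc a * (x * w) * a⁻¹ = a * x * a⁻¹ * ((a * a) * x * (a⁻¹ * a⁻¹)) := by rw [hw]; group
      _ = w * x := by rw [haa, hai, haa, one_mul, mul_one, hw, hai]
      _ = x * w := hwx'.eq
  by_contra hne
  have hxw : x * w ≠ 1 := fun e => hne (eq_inv_of_mul_eq_one_right e)
  refine haE (inE_of_commute hG ht ha haM hx hxM ?_)
  have hgen := hx.zpowers_eq (mul_mem (mem_zpowers x) hwx) hxw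
  have hax : Commute a (x * w) := mul_inv_eq_iff_eq_mul.1 hfix
  obtain ⟨i, hi⟩ : x ∈ zpowers (x * w) := hgen ▸ mem_zpowers x
  have := hax.zpow_right i
  rw [show (x * w) ^ i = x from hi] at this
  exact this.symm

theorem conj_outer {x m : G} (hx : OddEl x) (hxM : x ∈ M) (hm : m ∈ M) :
    m * a * m⁻¹ * a⁻¹ ∈ zpowers x := by
  obtain ⟨p, hp, hp2, ho⟩ := id hx
  have haN : zpowers a ≤ normalizer (zpowers x : Set G) :=
    zpowers_le.2 (by rw [normalizer_oddEl hG ht hx hxM]; exact haM)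
  set H := zpowers x ⊔ zpowers a with hH
  have hmem : ∀ z ∈ H, z ∈ zpowers x ∨ ∃ i : ℤ, z = x ^ i * a := by
    intro z hz
    rw [hH, ← SetLike.mem_coe, coe_mul_of_right_le_normalizer_left _ _ haN] at hz
    obtain ⟨u, ⟨i, rfl⟩, v, hv, rfl⟩ := hz
    rcases mem_zpowers_invol ha hv with rfl | rfl
    · exact Or.inl (by simp)
    · exact Or.inr ⟨i, rfl⟩
  have hsq : ∀ i : ℤ, (x ^ i * a) * (x ^ i * a) = 1 := by
    intro i
    calc (x ^ i * a) * (x ^ i * a) = x ^ i * (a * x ^ i * a⁻¹) * (a * a) := by group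
      _ = 1 := by
        rw [← conj_zpow, inverts hG ht ha haM haE hx hxM, mul_self_of_orderOf_two ha, mul_one,
          inv_zpow, mul_inv_cancel]
  have hle : normalizer (H : Set G) ≤ normalizer (zpowers x : Set G) := by
    intro g hg
    refine mem_normalizer_of_conj ?_
    have key : g * x * g⁻¹ ∈ zpowers x := by
      rcases hmem _ ((mem_normalizer_iff.1 hg x).1 (mem_sup_left (mem_zpowers x))) with h | ⟨i, hi⟩
      · exact h
      · exfalso
        have h1 := hsq i
        rw [← hi] at h1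
        refine hx.ne_one (hx.eq_one_of_mul_self (mem_zpowers x) ?_)
        rw [← conj_eq_one_iff (a := g)]
        rw [← h1]
        group
    rintro _ ⟨j, rfl⟩
    show g * x ^ j * g⁻¹ ∈ zpowers x
    rw [← conj_zpow]
    exact zpow_mem key j
  have h2p : TwoPrimes H := by
    refine TwoPrimes.of_dvd (a := 1) (b := 1) hp Nat.prime_two ?_
    haveI := Fact.mk hp
    haveI : Fact (Nat.Prime 2) := ⟨Nat.prime_two⟩
    rw [hH, CfsgLib.Coprime.card_sup_eq haN ?_, Nat.card_zpowers, Nat.card_zpowers, ho, ha, pow_one,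
      pow_one]
    exact (IsPGroup.disjoint_of_ne p 2 hp2 _ _ (isPGroup_zpowers (k := 1) (by rw [pow_one, ho]))
      (isPGroup_zpowers (k := 1) (by rw [pow_one, ha]))).eq_bot
  have heq : normalizer (H : Set G) = M := by
    rw [normalizer_oddEl hG ht hx hxM] at hle
    exact eq_of_coatom_le (hG.coatom H h2p fun e => hx.ne_one
      (mem_bot.1 (e ▸ mem_sup_left (mem_zpowers x)))) hle (hG.coatom_centralizer ht).1
  have hmH : m * a * m⁻¹ ∈ H := by
    rw [← heq] at hm
    exact (mem_normalizer_iff.1 hm a).1 (mem_sup_right (mem_zpowers a))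
  rcases hmem _ hmH with h | ⟨i, hi⟩
  · exfalso
    refine ne_one_of_orderOf_two ((orderOf_conj_eq m a).trans ha) (hx.eq_one_of_mul_self h ?_)
    exact mul_self_of_orderOf_two ((orderOf_conj_eq m a).trans ha)
  · rw [hi, mul_inv_cancel_right]
    exact zpow_mem (mem_zpowers x) i

/-- There is only one subgroup of odd prime order. -/
theorem oddEl_mem {x x' : G} (hx : OddEl x) (hxM : x ∈ M) (hx' : OddEl x') (hx'M : x' ∈ M) :
    x' ∈ zpowers x := by
  have h := conj_outer hG ht ha haM haE hx hxM hx'M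
  rw [show x' * a * x'⁻¹ * a⁻¹ = x' * (a * x'⁻¹ * a⁻¹) by group, ← conj_inv,
    inverts hG ht ha haM haE hx' hx'M, inv_inv] at h
  have h2 := mem_zpowers_sq_of_odd hx'.odd
  exact (zpowers_le.2 h) h2

/-- Every element of odd order lies in the subgroup of prime order. -/
theorem odd_mem {x m : G} (hx : OddEl x) (hxM : x ∈ M) (hm : m ∈ M) (ho : Odd (orderOf m)) :
    m ∈ zpowers x := by
  obtain ⟨r, hr, hr2, hxo⟩ := id hx
  haveI := Fact.mk hr
  -- the only prime is `r`
  have hpr : ∀ q : ℕ, q.Prime → q ∣ orderOf m → q = r := by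
    intro q hq hqd
    set z := m ^ (orderOf m / q) with hz
    have hzo : orderOf z = q := orderOf_pow_orderOf_div (orderOf_pos m).ne' hqd
    have hz' : OddEl z := ⟨q, hq, fun e => Nat.not_even_iff_odd.2 ho (even_iff_two_dvd.2 (e ▸ hqd)), hzo⟩
    have h := oddEl_mem hG ht ha haM haE hx hxM hz' (pow_mem hm _)
    have h3 : Nat.card (zpowers z) = Nat.card (zpowers x) := by
      rw [hx.zpowers_eq h hz'.ne_one]
    rwa [Nat.card_zpowers, Nat.card_zpowers, hzo, hxo] at h3
  have hpow : orderOf m = r ^ (orderOf m).factorization r := by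
    have := Nat.eq_prime_pow_of_unique_prime_dvd (orderOf_pos m).ne' fun {q} hq hqd => hpr q hq hqd
    conv_rhs => rw [this, hr.factorization_pow, Finsupp.single_eq_same]
    exact this
  -- no element of order `r²`
  rcases Nat.lt_or_ge ((orderOf m).factorization r) 2 with h2 | h2
  · by_cases hm1 : m = 1
    · subst hm1; exact one_mem _
    refine oddEl_mem hG ht ha haM haE hx hxM ⟨r, hr, hr2, ?_⟩ hm
    have : (orderOf m).factorization r ≠ 0 := fun e => hm1 (orderOf_eq_one_iff.1 (by rw [hpow, e, pow_zero]))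
    rw [hpow, show (orderOf m).factorization r = 1 by omega, pow_one]
  · exfalso
    generalize (orderOf m).factorization r = e at hpow h2
    set z := m ^ (r ^ (e - 2)) with hz
    have hzo : orderOf z = r ^ 2 := by
      rw [hz, orderOf_pow' _ (pow_ne_zero _ hr.ne_zero), hpow, Nat.gcd_eq_right
        (pow_dvd_pow r (Nat.sub_le _ _)), Nat.pow_div (Nat.sub_le _ _) hr.pos,
        show e - (e - 2) = 2 by omega]
    have hzM : z ∈ M := pow_mem hm _
    set y := z ^ r with hy
    have hyo : orderOf y = r := by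
      rw [hy, orderOf_pow' _ hr.ne_zero, hzo, Nat.gcd_eq_right (dvd_pow_self r two_ne_zero), pow_two,
        Nat.mul_div_cancel _ hr.pos]
    have hy' : OddEl y := ⟨r, hr, hr2, hyo⟩
    obtain ⟨i, hi⟩ := conj_outer hG ht ha haM haE hy' (pow_mem hzM r) hzM
    have hi' : y ^ i = z * a * z⁻¹ * a⁻¹ := hi
    have hcz : Commute (y ^ i) z := ((Commute.refl z).pow_left r).zpow_left i
    have hyr : (y ^ i) ^ r = 1 := by
      rw [← zpow_natCast, ← zpow_mul, mul_comm, zpow_mul, zpow_natCast, ← hyo, pow_orderOf_eq_one,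
        one_zpow]
    have haz : a * z * a⁻¹ = (y ^ i)⁻¹ * z := by rw [hi']; group
    have h3 : a * y * a⁻¹ = y := by
      rw [hy, ← conj_pow, haz, hcz.inv_left.mul_pow, inv_pow, hyr, inv_one, one_mul]
    rw [inverts hG ht ha haM haE hy' (pow_mem hzM r)] at h3
    exact hy'.ne_one (hy'.eq_one_of_mul_self (mem_zpowers y) (mul_eq_one_iff_eq_inv.2 h3.symm))

/-- A two-element centralising an odd element is a central element of square one. -/
theorem inE_of_two {x g : G} {k : ℕ} (hx : OddEl x) (hxM : x ∈ M) (hgM : g ∈ M)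
    (hg : orderOf g = 2 ^ k) (hc : Commute g x) : InE t g := by
  obtain ⟨r, hr, hr2, hxo⟩ := id hx
  -- `g` commutes with `a`
  obtain ⟨i, hi⟩ := conj_outer hG ht ha haM haE hx hxM hgM
  have hi' : g * a * g⁻¹ = x ^ i * a := by
    rw [show x ^ i = g * a * g⁻¹ * a⁻¹ from hi, inv_mul_cancel_right]
  have hiter : ∀ n : ℕ, g ^ n * a * (g ^ n)⁻¹ = (x ^ i) ^ n * a := by
    intro n
    induction n with
    | zero => simp
    | succ n ih =>
      have hcx : g * (x ^ i) ^ n * g⁻¹ = (x ^ i) ^ n := by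
        rw [((hc.zpow_right i).pow_right n).eq, mul_inv_cancel_right]
      calc g ^ (n + 1) * a * (g ^ (n + 1))⁻¹ = g * (g ^ n * a * (g ^ n)⁻¹) * g⁻¹ := by
            rw [pow_succ']; group
        _ = (g * (x ^ i) ^ n * g⁻¹) * (g * a * g⁻¹) := by rw [ih]; group
        _ = (x ^ i) ^ (n + 1) * a := by rw [hcx, hi', pow_succ, ← mul_assoc]
  have hxi : x ^ i = 1 := by
    have h := hiter (2 ^ k)
    rw [← hg, pow_orderOf_eq_one, inv_one, one_mul, mul_one, eq_comm, mul_eq_right] at h
    refine orderOf_eq_one_iff.1 (Nat.eq_one_of_dvd_coprimes (a := 2 ^ k) (b := r)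
      (((Nat.coprime_primes Nat.prime_two hr).2 (Ne.symm hr2)).pow_left k)
      (hg ▸ orderOf_dvd_of_pow_eq_one h) ?_)
    refine orderOf_dvd_of_pow_eq_one ?_
    rw [← zpow_natCast, ← zpow_mul, mul_comm, zpow_mul, zpow_natCast, ← hxo, pow_orderOf_eq_one,
      one_zpow]
  have hga : Commute g a := by
    rw [hxi, one_mul] at hi'
    exact mul_inv_eq_iff_eq_mul.1 hi'
  by_cases hg1 : g = 1
  · subst hg1
    exact ⟨one_mem _, one_mul 1, fun m _ => Commute.one_right m⟩
  by_cases hg2 : g * g = 1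
  · exact inE_of_commute hG ht (orderOf_two_of_mul_self hg2 hg1) hgM hx hxM hc.symm
  exfalso
  obtain ⟨n, hn, hnE⟩ := exists_inE_pow hG ht hgM hg hg1 hx hxM hc
  obtain ⟨j, rfl⟩ : Even n := by
    by_contra hne
    rw [Nat.not_even_iff_odd] at hne
    have hco : Nat.Coprime n (orderOf g) := hg ▸ hne.coprime_two_right.pow_right k
    refine hg2 ?_
    rw [← pow_two, ← orderOf_dvd_iff_pow_eq_one, ← hn, hco.symm.orderOf_pow]
  have hag : (a * g) ^ (j + j) = g ^ (j + j) := by
    rw [hga.symm.mul_pow, ← two_mul, pow_mul, pow_two, mul_self_of_orderOf_two ha, one_pow, one_mul]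
  have hord : ∃ l, orderOf (a * g) = 2 ^ l := by
    have h1 : (a * g) ^ 2 ^ (k + 1) = 1 := by
      rw [hga.symm.mul_pow, pow_succ', pow_mul, pow_two, mul_self_of_orderOf_two ha, one_pow, one_mul,
        pow_mul', ← hg, pow_orderOf_eq_one, one_pow]
    obtain ⟨l, -, hl⟩ := (Nat.dvd_prime_pow Nat.prime_two).1 (orderOf_dvd_of_pow_eq_one h1)
    exact ⟨l, hl⟩
  obtain ⟨l, hl⟩ := hord
  have hc2 := commute_of_inE_pow hG ht (mul_mem haM hgM) hl (n := j + j) (by rw [hag, hn])
    (by rw [hag]; exact hnE) hx hxM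
  refine haE (inE_of_commute hG ht ha haM hx hxM ?_)
  have := (hc.inv_left).symm
  have h4 : Commute x (a * g * g⁻¹) := hc2.symm.mul_right this
  rwa [mul_inv_cancel_right] at h4

/-- Elements centralising an odd element. -/
theorem centralizer_odd {x m : G} (hx : OddEl x) (hxM : x ∈ M) (hm : m ∈ M) (hc : Commute m x) :
    ∃ i : ℤ, ∃ e : G, InE t e ∧ m = e * x ^ i := by
  obtain ⟨p, q, hp, hq, ⟨k, hk⟩, hqo, rfl⟩ := exists_parts m
  have hpM : p ∈ M := (zpowers_le.2 hm) hp
  have hqM : q ∈ M := (zpowers_le.2 hm) hq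
  obtain ⟨i, hi⟩ := odd_mem hG ht ha haM haE hx hxM hqM hqo
  refine ⟨i, p, inE_of_two hG ht ha haM haE hx hxM hpM hk ?_, by rw [show x ^ i = q from hi]⟩
  obtain ⟨j, hj⟩ := hp
  exact (show (p * q) ^ j = p from hj) ▸ hc.zpow_left j

/-- Two-subgroups are abelian. -/
theorem two_commute {x : G} (hx : OddEl x) (hxM : x ∈ M) {S : Subgroup G} (hS : IsPGroup 2 S)
    (hSM : S ≤ M) : ∀ u ∈ S, ∀ v ∈ S, Commute u v := by
  obtain ⟨r, hr, hr2, hxo⟩ := id hx
  have hSN : S ≤ normalizer (zpowers x : Set G) := by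
    rw [normalizer_oddEl hG ht hx hxM]; exact hSM
  let f : S →* MulAut (zpowers x) := (zpowers x).normalizerMonoidHom.comp (inclusion hSN)
  haveI : IsCyclic (MulAut (zpowers x)) := by
    haveI : IsCyclic (ZMod (Nat.card (zpowers x)))ˣ := by
      rw [Nat.card_zpowers, hxo]; exact ZMod.isCyclic_units_prime hr
    exact isCyclic_of_surjective (IsCyclic.mulAutMulEquiv (zpowers x)).symm.toMonoidHom
      (MulEquiv.surjective _)
  have hker : f.ker ≤ center S := by
    intro s hs
    have h1 : (⟨(s : G), hSN s.2⟩ : normalizer (zpowers x : Set G)) ∈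
        (zpowers x).normalizerMonoidHom.ker := hs
    rw [normalizerMonoidHom_ker, mem_subgroupOf] at h1
    have hc : Commute (s : G) x := (mem_centralizer_iff.1 h1 x (mem_zpowers x)).symm
    obtain ⟨k, hk⟩ := exists_orderOf_eq_two_pow hS s.2
    have hE := inE_of_two hG ht ha haM haE hx hxM (hSM s.2) hk hc
    exact mem_center_iff.2 fun w => Subtype.ext (hE.2.2 w (hSM w.2)).eq
  intro u hu v hv
  haveI := f.isMulCommutative_of_isCyclic_of_ker_le_center hker
  exact congrArg Subtype.val ((inferInstance : IsMulCommutative S).is_comm.comm ⟨u, hu⟩ ⟨v, hv⟩)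

end Outer

/-- Two involutions outside the centre and their product cannot all be outside. -/
theorem not_three {x : G} (hx : OddEl x) (hxM : x ∈ M) {v w : G} (hvo : orderOf v = 2)
    (hwo : orderOf w = 2) (hvwo : orderOf (v * w) = 2) (hvM : v ∈ M) (hwM : w ∈ M)
    (hvE : ¬ InE t v) (hwE : ¬ InE t w) (hvwE : ¬ InE t (v * w)) : False := by
  have h1 := inverts hG ht hvo hvM hvE hx hxM
  have h2 := inverts hG ht hwo hwM hwE hx hxM
  have h3 := inverts hG ht hvwo (mul_mem hvM hwM) hvwE hx hxM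
  have h4 : v * w * x * (v * w)⁻¹ = x := by
    calc v * w * x * (v * w)⁻¹ = v * (w * x * w⁻¹) * v⁻¹ := by group
      _ = x := by rw [h2, ← conj_inv, h1, inv_inv]
  rw [h3] at h4
  exact hx.ne_one (hx.eq_one_of_mul_self (mem_zpowers x) (mul_eq_one_iff_eq_inv.2 h4.symm))

/-- The central elements of square one are `1` and `t` if some involution lies outside. -/
theorem inE_eq {a : G} (ha : orderOf a = 2) (haM : a ∈ centralizer ({t} : Set G)) (haE : ¬ InE t a) {x : G} (hx : OddEl x)
    (hxM : x ∈ M) {u : G} (hu : InE t u) : u = 1 ∨ u = t := by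
  by_contra hne
  push Not at hne
  have ht1 := ne_one_of_orderOf_two ht
  have htt := mul_self_of_orderOf_two ht
  have huo := orderOf_two_of_mul_self hu.2.1 hne.1
  have hut := inE_mul hG ht hu (inE_self hG ht)
  have hut1 : u * t ≠ 1 := fun e => hne.2 (by rw [eq_inv_of_mul_eq_one_left e, inv_eq_of_mul_eq_one_right htt])
  have huto := orderOf_two_of_mul_self hut.2.1 hut1
  have hta : t ∈ centralizer ({a} : Set G) :=
    mem_centralizer_singleton_iff.2 (mem_centralizer_singleton_iff.1 haM).symm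
  have hua : u ∈ centralizer ({a} : Set G) := mem_centralizer_singleton_iff.2 (hu.2.2 a haM).symm.eq
  by_cases hodd : HasOdd a
  · obtain ⟨y, hyC, hy⟩ := hodd
    have hout : ∀ w, InE t w → w ≠ 1 → ¬ InE a w := by
      intro w hw hw1 hwa
      have h1 := inE_centralizer hG ha hwa hw1
      have h2 := inE_centralizer hG ht hw hw1
      rw [h1] at h2
      refine haE ⟨haM, mul_self_of_orderOf_two ha, fun m hm => ?_⟩
      rw [← h2] at hm
      exact mem_centralizer_singleton_iff.1 hm
    exact not_three hG ha hy hyC huo ht huto hua hta (hout u hu hne.1) (hout t (inE_self hG ht) ht1)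
      (hout _ hut hut1)
  · -- the centraliser of `a` is a two-group
    set W := centralizer ({a} : Set G) with hWdef
    haveI : Fact (Nat.Prime 2) := ⟨Nat.prime_two⟩
    have hW : IsPGroup 2 W := by
      refine CfsgLib.CITGroups.isPGroup_two_of_forall fun g hg hgo => ?_
      by_contra hg1
      obtain ⟨p, hp, hpd⟩ := Nat.exists_prime_and_dvd (fun e => hg1 (orderOf_eq_one_iff.1 e))
      exact hodd ⟨g ^ (orderOf g / p), pow_mem hg _, p, hp,
        fun e => Nat.not_even_iff_odd.2 hgo (even_iff_two_dvd.2 (e ▸ hpd)),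
        orderOf_pow_orderOf_div (orderOf_pos g).ne' hpd⟩
    obtain ⟨S, hTS, hSM, hS, -⟩ := CfsgLib.EPPOSeven.exists_maximal_two_subgroup
      (hW.to_inf_left (K := M)) inf_le_right
    have haS : a ∈ S := hTS ⟨mem_centralizer_singleton_iff.2 rfl, haM⟩
    have hSW : S ≤ W := fun s hs => mem_centralizer_singleton_iff.2
      (two_commute hG ht ha haM haE hx hxM hS hSM s hs a haS).eq
    have hne' : W ⊓ M ≠ W := by
      intro e
      have h := eq_of_coatom_le (hG.coatom_centralizer ha) (inf_eq_left.1 e)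
        (hG.coatom_centralizer ht).1
      exact hx.ne_one (CfsgLib.CITGroups.eq_one_of_odd_mem hW (h.ge hxM) hx.odd)
    obtain ⟨n, hnW, hnI, hnN⟩ := CfsgLib.EPPOSeven.exists_normalizing_notMem hW inf_le_left hne'
    have hnM : n ∉ M := fun h => hnI ⟨hnW, h⟩
    have hout : ∀ w, InE t w → w ≠ 1 → n * w * n⁻¹ ∈ M ∧ orderOf (n * w * n⁻¹) = 2 ∧
        ¬ InE t (n * w * n⁻¹) := by
      intro w hw hw1
      have hwo := orderOf_two_of_mul_self hw.2.1 hw1
      have hwI : w ∈ W ⊓ M :=
        ⟨mem_centralizer_singleton_iff.2 (hw.2.2 a haM).symm.eq, hw.1⟩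
      refine ⟨((mem_normalizer_iff.1 hnN w).1 hwI).2, by rw [orderOf_conj_eq, hwo], fun hE => hnM ?_⟩
      have h1 := inE_centralizer hG ht hw hw1
      have h2 := inE_centralizer hG ht hE (ne_one_of_orderOf_two (by rw [orderOf_conj_eq, hwo]))
      rw [← h1] at h2 ⊢
      exact hG.mem_of_centralizer_conj hwo h2
    obtain ⟨a1, a2, a3⟩ := hout u hu hne.1
    obtain ⟨b1, b2, b3⟩ := hout t (inE_self hG ht) ht1
    obtain ⟨c1, c2, c3⟩ := hout _ hut hut1
    have hprod : n * u * n⁻¹ * (n * t * n⁻¹) = n * (u * t) * n⁻¹ := by group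
    exact not_three hG ht hx hxM a2 b2 (by rw [hprod]; exact c2) a1 b1 a3 b3 (by rw [hprod]; exact c3)

end CfsgLib.MaxNormalizer
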