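import Mathlib
import Cfsg.Agent.S2086
import Cfsg.Agent.SchurBN.SL2Lift
import Cfsg.Agent.Linear.Basic

/-!
# Perfect central extensions of `PSL(2, 13)`
-/

set_option autoImplicit false
set_option linter.style.haveILetI false
set_option linter.unusedSectionVars false

namespace CfsgLib.MaxNormalizer

open Subgroup
open scoped MatrixGroups commutatorElement

local notation "P13" => Matrix.ProjectiveSpecialLinearGroup (Fin 2) (ZMod 13)
local notation "S13" => Matrix.SpecialLinearGroup (Fin 2) (ZMod 13)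

theorem fact_thirteen : Fact (Nat.Prime 13) := ⟨by norm_num⟩

attribute [local instance] fact_thirteen

theorem card_SL_thirteen : Nat.card S13 = 2184 := by
  rw [CfsgLib.Linear.card_SL_two, ZMod.card]
  norm_num

theorem card_PSL_thirteen : Nat.card P13 = 1092 := by
  have h := CfsgLib.Linear.card_PSL_two_odd (F := ZMod 13) (by rw [ZMod.card]; decide)
  rw [ZMod.card] at h
  omega

/-- Small type version. -/
theorem stem_thirteen_zero {L : Type} [Group L] [Finite L] (σ : L →* P13)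
    (hσ : Function.Surjective σ) (hc : σ.ker ≤ center L) (hperf : commutator L = ⊤) :
    Nat.card σ.ker ≤ 2 ∧ (Nonempty (L ≃* P13) ∨ Nonempty (L ≃* S13)) := by
  have hM := Cfsg.Agent.S2086.result (F := ZMod 13) (ZMod.card 13) 2 le_rfl (fun _ => by norm_num)
    (by decide)
  obtain ⟨f, hf⟩ := hM.2 L σ ⟨hσ, hc, hperf ▸ le_top⟩
  have hk : Nat.card σ.ker ≤ 2 := by
    haveI : NeZero (Nat.gcd 2 (13 - 1)) := ⟨by norm_num⟩
    refine (Nat.card_le_card_of_surjective f hf).trans ?_
    rw [Nat.card_congr Multiplicative.toAdd, Nat.card_zmod]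
    exact Nat.le_of_dvd (by norm_num) (Nat.gcd_dvd_left 2 _)
  have hk0 : 0 < Nat.card σ.ker := Nat.card_pos
  have hπ : CfsgLib.SchurBN.PrimeToP σ 13 := ⟨hc, by
    rcases (show Nat.card σ.ker = 1 ∨ Nat.card σ.ker = 2 by omega) with e | e <;> rw [e] <;>
      norm_num⟩
  let φ : S13 →* P13 := QuotientGroup.mk' _
  have hφ : Function.Surjective φ := QuotientGroup.mk'_surjective _
  obtain ⟨ψ, hψ⟩ := CfsgLib.SchurBN.exists_lift_sl2 (p := 13) hπ φ
    (by rw [MonoidHom.range_eq_top.2 hσ]; exact le_top)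
  have hψs : Function.Surjective ψ := by
    rw [← MonoidHom.range_eq_top]
    have hsup : ∀ g : L, ∃ s : S13, ∃ z ∈ center L, g = ψ s * z := by
      intro g
      obtain ⟨s, hs⟩ := hφ (σ g)
      refine ⟨s, (ψ s)⁻¹ * g, hc (MonoidHom.mem_ker.2 ?_), (mul_inv_cancel_left _ _).symm⟩
      rw [map_mul, map_inv, show σ (ψ s) = φ s from DFunLike.congr_fun hψ s, hs, inv_mul_cancel]
    refine top_unique (hperf.ge.trans ?_)
    rw [_root_.commutator_def, commutator_le]
    intro a _ b _
    obtain ⟨s, z, hz, rfl⟩ := hsup a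
    obtain ⟨s', z', hz', rfl⟩ := hsup b
    refine ⟨⁅s, s'⁆, ?_⟩
    rw [map_commutatorElement, commutatorElement_def, commutatorElement_def]
    have h1 : ∀ w : L, w * z = z * w := fun w => mem_center_iff.1 hz w
    have h2 : ∀ w : L, w * z' = z' * w := fun w => mem_center_iff.1 hz' w
    calc ψ s * ψ s' * (ψ s)⁻¹ * (ψ s')⁻¹
        = ψ s * (z * ψ s') * z⁻¹ * (ψ s)⁻¹ * (ψ s')⁻¹ := by rw [← h1]; group
      _ = ψ s * z * (ψ s' * ((z⁻¹ * (ψ s)⁻¹) * z')) * z'⁻¹ * (ψ s')⁻¹ := by group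
      _ = ψ s * z * (ψ s' * (z' * (z⁻¹ * (ψ s)⁻¹))) * z'⁻¹ * (ψ s')⁻¹ := by rw [h2]
      _ = ψ s * z * (ψ s' * z') * (ψ s * z)⁻¹ * (ψ s' * z')⁻¹ := by group
  refine ⟨hk, ?_⟩
  have hcard : Nat.card L = 1092 * Nat.card σ.ker := by
    rw [σ.ker.card_eq_card_quotient_mul_card_subgroup,
      Nat.card_congr (QuotientGroup.quotientKerEquivOfSurjective σ hσ).toEquiv, card_PSL_thirteen]
  rcases (show Nat.card σ.ker = 1 ∨ Nat.card σ.ker = 2 by omega) with e | e
  · left
    exact ⟨MulEquiv.ofBijective σ ⟨(σ.ker_eq_bot_iff).1 (eq_bot_of_card_eq _ e), hσ⟩⟩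
  · right
    refine ⟨(MulEquiv.ofBijective ψ ?_).symm⟩
    exact (Nat.bijective_iff_surjective_and_card ψ).2 ⟨hψs, by rw [card_SL_thirteen, hcard, e]⟩

/-- A perfect central extension of `PSL(2, 13)`. -/
theorem stem_thirteen {L : Type*} [Group L] [Finite L] (σ : L →* P13)
    (hσ : Function.Surjective σ) (hc : σ.ker ≤ center L) (hperf : commutator L = ⊤) :
    Nat.card σ.ker ≤ 2 ∧ (Nonempty (L ≃* P13) ∨ Nonempty (L ≃* S13)) := by
  let e : Shrink.{0} L ≃* L := Shrink.mulEquiv
  haveI : Finite (Shrink.{0} L) := Finite.of_equiv L (equivShrink.{0} L)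
  set τ := σ.comp e.toMonoidHom with hτ
  have hker : ∀ x, x ∈ τ.ker ↔ e x ∈ σ.ker := fun x => Iff.rfl
  obtain ⟨hk, hiso⟩ := stem_thirteen_zero τ (hσ.comp e.surjective)
    (fun x hx => mem_center_iff.2 fun w => e.injective (by
      rw [map_mul, map_mul]; exact mem_center_iff.1 (hc ((hker x).1 hx)) (e w)))
    (top_unique fun x _ => by
      have h1 : e x ∈ commutator L := hperf ▸ mem_top _
      have h2 : (commutator (Shrink.{0} L)).map e.toMonoidHom = commutator L := by
        rw [_root_.commutator_def, _root_.commutator_def, map_commutator,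
          map_top_of_surjective e.toMonoidHom e.surjective]
      rw [← h2] at h1
      obtain ⟨y, hy, hye⟩ := h1
      exact e.injective hye ▸ hy)
  refine ⟨le_of_eq_of_le ?_ hk, hiso.imp (fun h => h.map e.symm.trans) (fun h => h.map e.symm.trans)⟩
  exact (Nat.card_congr (e.toEquiv.subtypeEquiv hker)).symm

end CfsgLib.MaxNormalizer
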