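import Cfsg.Agent.MaxNormalizer.Residual
import Cfsg.Agent.MaxNormalizer.Stem
import Cfsg.Agent.Hamiltonian.Basic
import Cfsg.Agent.S0498

/-!
# The solvable radical is abelian of order prime to `1092` up to the centre of the residual
-/

set_option autoImplicit false
set_option linter.style.haveILetI false
set_option linter.unusedSectionVars false

namespace CfsgLib.MaxNormalizer

open Subgroup
open CfsgLib.Components (solvRadical)

variable {G : Type*} [Group G] [Finite G]

/-- Some element normalises a Sylow subgroup of prime order without centralising it. -/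
theorem exists_noncentral {Q : Type*} [Group Q] [Finite Q] [IsSimpleGroup Q]
    (hna : ¬ IsMulCommutative Q) {p : ℕ} [Fact p.Prime] (P : Sylow p Q)
    (hpd : p ∣ Nat.card Q) : ∃ n ∈ normalizer ((P : Subgroup Q) : Set Q),
      ∃ x ∈ (P : Subgroup Q), n * x * n⁻¹ ≠ x := by
  by_contra hall
  push Not at hall
  have hle : normalizer ((P : Subgroup Q) : Set Q) ≤ centralizer ((P : Subgroup Q) : Set Q) :=
    fun n hn => mem_centralizer_iff.2 fun x hx => (mul_inv_eq_iff_eq_mul.1 (hall n hn x hx)).symm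
  have hc := MonoidHom.ker_transferSylow_isComplement' P hle
  rcases (MonoidHom.normal_ker (MonoidHom.transferSylow P hle)).eq_bot_or_eq_top with h | h
  · rw [h] at hc
    have htop := isComplement'_bot_left.1 hc
    have hab : ∀ a ∈ (P : Subgroup Q), ∀ b ∈ (P : Subgroup Q), a * b = b * a := fun a ha b hb =>
      (mem_centralizer_iff.1 (hle (le_normalizer ha)) b hb).symm
    exact hna ⟨⟨fun a b => hab a (htop ▸ mem_top a) b (htop ▸ mem_top b)⟩⟩
  · rw [h] at hc
    exact P.ne_bot_of_dvd_card hpd (isComplement'_top_left.1 hc)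

variable (hG : Hyp G) (L : Subgroup G) [L.Normal] (hLR : L ⊔ solvRadical G = ⊤)
  (hcomm : ∀ l ∈ L, ∀ r ∈ solvRadical G, Commute l r)
  (hZ : ∀ z ∈ L, z ∈ solvRadical G → z * z = 1) (hL : 1092 ∣ Nat.card L)
include hG hLR hcomm hZ hL

local notation "R" => solvRadical G

/-- Elements of `L` of odd prime order lie outside the radical. -/
theorem exists_oddEl_outside {p : ℕ} (hp : p.Prime) (hp2 : p ≠ 2) (hpd : p ∣ 1092) :
    ∃ x ∈ L, orderOf x = p ∧ x ∉ R := by
  haveI := Fact.mk hp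
  obtain ⟨x, hx⟩ := exists_prime_orderOf_dvd_card' (G := L) p (hpd.trans hL)
  have hxo : orderOf (x : G) = p := by rw [Subgroup.orderOf_coe, hx]
  refine ⟨x, x.2, hxo, fun h => ?_⟩
  have h1 : orderOf (x : G) ∣ 2 := orderOf_dvd_of_pow_eq_one (by rw [pow_two, hZ _ x.2 h])
  rw [hxo] at h1
  exact hp2 ((Nat.prime_dvd_prime_iff_eq hp Nat.prime_two).1 h1)

/-- Cyclic subgroups of prime power order of the radical are normalised by it. -/
theorem conj_mem_zpowers_radical {r : G} (hr : r ∈ R) {q k : ℕ} (hq : q.Prime)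
    (hro : orderOf r = q ^ k) {s : G} (hs : s ∈ R) : s * r * s⁻¹ ∈ zpowers r := by
  obtain ⟨p, hp, hp2, hpd, hpq⟩ : ∃ p : ℕ, p.Prime ∧ p ≠ 2 ∧ p ∣ 1092 ∧ q ≠ p := by
    by_cases h : q = 3
    · exact ⟨7, by norm_num, by norm_num, by norm_num, by omega⟩
    · exact ⟨3, Nat.prime_three, by norm_num, by norm_num, h⟩
  haveI := Fact.mk hp
  haveI := Fact.mk hq
  obtain ⟨x, hxL, hxo, hxR⟩ := exists_oddEl_outside hG L hLR hcomm hZ hL hp hp2 hpd
  have hc : ∀ a ∈ zpowers r, ∀ b ∈ zpowers x, Commute a b := by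
    rintro _ ⟨i, rfl⟩ _ ⟨j, rfl⟩
    exact (hcomm x hxL r hr).symm.zpow_zpow i j
  have hrp := isPGroup_zpowers hro
  have hxp : IsPGroup p (zpowers x) := isPGroup_zpowers (k := 1) (by rw [pow_one, hxo])
  have hn : zpowers x ≤ normalizer (zpowers r : Set G) := fun b hb => mem_normalizer_of_conj fun a ha => by
    rw [← (hc a ha b hb).eq, mul_inv_cancel_right]
    exact ha
  have h2p : TwoPrimes (zpowers r ⊔ zpowers x) := TwoPrimes.of_dvd (a := k) (b := 1) hq hp (by
    rw [CfsgLib.Coprime.card_sup_eq hn (IsPGroup.disjoint_of_ne q p hpq _ _ hrp hxp).eq_bot,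
      Nat.card_zpowers, Nat.card_zpowers, hro, hxo, pow_one])
  have hmem := hG.conj_mem h2p (fun h => hxR (h (mem_sup_right (mem_zpowers x)))) hs
    (mem_sup_left (mem_zpowers r))
  refine mem_left_of_sup hpq hrp hxp hc hmem (k := k) ?_
  rw [conj_pow, ← hro, pow_orderOf_eq_one, mul_one, mul_inv_cancel]

/-- The primes `3`, `7`, `13` do not divide the order of the radical. -/
theorem orderOf_ne_of_dvd {r : G} (hr : r ∈ R) {q : ℕ} (hq : q.Prime) (hq2 : q ≠ 2) (hqd : q ∣ 1092) :
    orderOf r ≠ q := by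
  intro hro
  haveI := Fact.mk hq
  obtain ⟨x, hxL, hxo, hxR⟩ := exists_oddEl_outside hG L hLR hcomm hZ hL hq hq2 hqd
  set π := QuotientGroup.mk' R with hπdef
  have hπ : Function.Surjective π := QuotientGroup.mk'_surjective R
  obtain ⟨hQs, hQc⟩ := hG.quotient.simple_card
  haveI := hQs
  have hQna : ¬ IsMulCommutative (G ⧸ R) := fun h => by
    haveI : Group.IsSolvable (G ⧸ R) := Group.isSolvable_of_comm fun a b => h.is_comm.comm a b
    exact hG.nonsolv (Group.isSolvable_of_ker_le_range (Subgroup.subtype R) π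
      (hG' := CfsgLib.Components.isSolvable_solvRadical) (by rw [QuotientGroup.ker_mk', range_subtype]))
  have hxr : Commute x r := hcomm x hxL r hr
  have hpow : ∀ j : ℤ, (x * r) ^ j = x ^ j * r ^ j := fun j => hxr.mul_zpow j
  have hq1 : ∀ {z : G}, z ∈ L → z ∈ R → z ^ q = 1 → z = 1 := fun {z} h1 h2 h3 =>
    orderOf_eq_one_iff.1 (Nat.eq_one_of_dvd_coprimes ((Nat.coprime_primes hq Nat.prime_two).2 hq2)
      (orderOf_dvd_of_pow_eq_one h3) (orderOf_dvd_of_pow_eq_one (by rw [pow_two, hZ z h1 h2])))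
  set H := zpowers (x * r) with hH
  have hxrR : x * r ∉ R := fun h => hxR (by simpa using mul_mem h (inv_mem hr))
  have hxro : orderOf (x * r) = q := by
    refine orderOf_eq_prime ?_ fun e => hxrR (e ▸ one_mem _)
    have hx1 : x ^ q = 1 := by rw [← hxo, pow_orderOf_eq_one]
    have hr1 : r ^ q = 1 := by rw [← hro, pow_orderOf_eq_one]
    rw [hxr.mul_pow, hx1, hr1, one_mul]
  have h2p : TwoPrimes H := .of_isPGroup hq (isPGroup_zpowers (k := 1) (by rw [pow_one, hxro]))
  have hnle : ¬ H ≤ R := fun h => hxrR (h (mem_zpowers _))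
  -- a normalising element of the quotient
  have hxb : orderOf (π x) = q := orderOf_eq_prime (by rw [← map_pow, ← hxo, pow_orderOf_eq_one, map_one])
    fun e => hxR ((QuotientGroup.eq_one_iff x).1 e)
  obtain ⟨P, hP⟩ := (isPGroup_zpowers (g := π x) (k := 1) (by rw [pow_one, hxb])).exists_le_sylow
  have hPeq : zpowers (π x) = (P : Subgroup (G ⧸ R)) := by
    refine eq_of_le_of_card_ge hP ?_
    obtain ⟨e, he⟩ := IsPGroup.iff_card.1 P.2
    rw [Nat.card_zpowers, hxb, he]
    have hd : q ^ e ∣ 1092 := he ▸ hQc ▸ card_subgroup_dvd_card _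
    by_contra hlt
    have h2 : q ^ 2 ∣ 1092 := (pow_dvd_pow q (by
      by_contra h
      exact hlt ((Nat.pow_le_pow_right hq.pos (show e ≤ 1 by omega)).trans (pow_one q).le))).trans hd
    have hq33 : q ≤ 33 := by
      have := Nat.le_of_dvd (by norm_num) h2
      by_contra h
      have : 34 ^ 2 ≤ q ^ 2 := Nat.pow_le_pow_left (by omega) 2
      omega
    revert h2 hq hq2
    interval_cases q <;> norm_num
  obtain ⟨nb, hnb, yb, hyb, hne⟩ := exists_noncentral hQna P (hQc ▸ hqd)
  rw [← hPeq] at hnb hyb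
  obtain ⟨n, hnL, rfl⟩ : ∃ n ∈ L, π n = nb := by
    obtain ⟨g, rfl⟩ := hπ nb
    have hg : g ∈ L ⊔ R := hLR ▸ mem_top g
    rw [← SetLike.mem_coe, normal_mul] at hg
    obtain ⟨l, hl, s, hs, rfl⟩ := hg
    refine ⟨l, hl, ?_⟩
    show π l = π (l * s)
    rw [map_mul, show π s = 1 from (QuotientGroup.eq_one_iff s).2 hs, mul_one]
  -- the normaliser of `H`
  have hmap : H.map π = zpowers (π x) := by
    rw [hH, MonoidHom.map_zpowers, map_mul, show π r = 1 from (QuotientGroup.eq_one_iff r).2 hr, mul_one]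
  have hle : normalizer (H : Set G) ≤ (normalizer (zpowers (π x) : Set (G ⧸ R))).comap π :=
    fun g hg => hmap ▸ le_normalizer_map π ⟨g, hg, rfl⟩
  have hne' : (normalizer (zpowers (π x) : Set (G ⧸ R))).comap π ≠ ⊤ := by
    intro e
    have h := congrArg (Subgroup.map π) e
    rw [map_comap_eq_self_of_surjective hπ, map_top_of_surjective π hπ] at h
    exact hG.quotient.normalizer_ne_top (.of_isPGroup hq (isPGroup_zpowers (k := 1) (by rw [pow_one, hxb])))
      (zpowers_ne_bot' (ne_one_of_prime hq hxb)) h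
  have hnN : n ∈ normalizer (H : Set G) := by
    rw [eq_of_coatom_le (hG.coatom H h2p hnle) hle hne']
    exact hnb
  obtain ⟨j, hj⟩ := (mem_normalizer_iff.1 hnN _).1 (mem_zpowers (x * r))
  have hj' : n * x * n⁻¹ * r = x ^ j * r ^ j := by
    rw [← hpow, show (x * r) ^ j = n * (x * r) * n⁻¹ from hj,
      show n * (x * r) * n⁻¹ = n * x * (r * n⁻¹) by group,
      ((hcomm n hnL r hr).inv_left.symm).eq]
    group
  have hmL : n * x * n⁻¹ ∈ L := L.mul_mem (L.mul_mem hnL hxL) (L.inv_mem hnL)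
  have hkey : (x ^ j)⁻¹ * (n * x * n⁻¹) = r ^ j * r⁻¹ := by
    rw [eq_mul_inv_iff_mul_eq, mul_assoc, hj', inv_mul_cancel_left]
  have hone : r ^ j * r⁻¹ = 1 := by
    refine hq1 ?_ (mul_mem (zpow_mem hr j) (inv_mem hr)) ?_
    · rw [← hkey]
      exact mul_mem (inv_mem (zpow_mem hxL j)) hmL
    · rw [((Commute.refl r).zpow_left j).inv_right.mul_pow, ← hro, inv_pow, pow_orderOf_eq_one, inv_one,
        mul_one, ← zpow_natCast (r ^ j), ← zpow_mul, mul_comm, zpow_mul, zpow_natCast, pow_orderOf_eq_one,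
        one_zpow]
  rw [mul_inv_eq_one] at hone
  have hxj : x ^ j = x := by
    have h1 := zpow_eq_zpow_iff_modEq.1 (hone.trans (zpow_one r).symm)
    rw [hro, ← hxo] at h1
    exact (zpow_eq_zpow_iff_modEq.2 h1).trans (zpow_one x)
  have hfix : π n * π x * (π n)⁻¹ = π x := by
    rw [hxj, hone, mul_inv_cancel, inv_mul_eq_one] at hkey
    rw [← map_inv, ← map_mul, ← map_mul, ← hkey]
  obtain ⟨i, rfl⟩ := hyb
  refine hne ?_
  show π n * π x ^ i * (π n)⁻¹ = π x ^ i
  rw [← conj_zpow, hfix]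

/-- The two-elements of the radical lie in `L`. -/
theorem two_mem_residual {r : G} (hr : r ∈ R) {k : ℕ} (hro : orderOf r = 2 ^ k) : r ∈ L := by
  induction k generalizing r with
  | zero =>
    rw [pow_zero, orderOf_eq_one_iff] at hro
    exact hro ▸ one_mem L
  | succ k ih =>
    have hr2 : r * r ∈ L := ih (mul_mem hr hr) (by
      rw [← pow_two, orderOf_pow' _ two_ne_zero, hro, Nat.gcd_eq_right (dvd_pow_self 2 (Nat.succ_ne_zero k)),
        pow_succ, Nat.mul_div_cancel _ two_pos])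
    by_contra hrL
    haveI : Fact (Nat.Prime 2) := ⟨Nat.prime_two⟩
    set π := QuotientGroup.mk' R with hπdef
    have hπ : Function.Surjective π := QuotientGroup.mk'_surjective R
    obtain ⟨hQs, hQc⟩ := hG.quotient.simple_card
    haveI := hQs
    have hQna : ¬ IsMulCommutative (G ⧸ R) := fun h => by
      haveI : Group.IsSolvable (G ⧸ R) := Group.isSolvable_of_comm fun a b => h.is_comm.comm a b
      exact hG.nonsolv (Group.isSolvable_of_ker_le_range (Subgroup.subtype R) π
        (hG' := CfsgLib.Components.isSolvable_solvRadical) (by rw [QuotientGroup.ker_mk', range_subtype]))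
    have hlift : ∀ v : G ⧸ R, ∃ l ∈ L, π l = v := by
      intro v
      obtain ⟨g, rfl⟩ := hπ v
      have hg : g ∈ L ⊔ R := hLR ▸ mem_top g
      rw [← SetLike.mem_coe, normal_mul] at hg
      obtain ⟨l, hl, s, hs, rfl⟩ := hg
      refine ⟨l, hl, ?_⟩
      show π l = π (l * s)
      rw [map_mul, show π s = 1 from (QuotientGroup.eq_one_iff s).2 hs, mul_one]
    -- a four subgroup of the quotient
    obtain ⟨P⟩ : Nonempty (Sylow 2 (G ⧸ R)) := inferInstance
    have hP4 : Nat.card (P : Subgroup (G ⧸ R)) = 4 := by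
      obtain ⟨e, he⟩ := IsPGroup.iff_card.1 P.2
      have h1 : 2 ^ e ∣ 1092 := he ▸ hQc ▸ card_subgroup_dvd_card _
      have h2 : 4 ∣ 2 ^ e := he ▸ P.pow_dvd_card_of_pow_dvd_card (n := 2) (by rw [hQc]; norm_num)
      have h3 : e < 3 := by
        by_contra h
        have := (pow_dvd_pow 2 (show 3 ≤ e by omega)).trans h1
        norm_num at this
      have := Nat.le_of_dvd (by positivity) h2
      interval_cases e <;> simp_all
    obtain ⟨t0, ht0⟩ := exists_prime_orderOf_dvd_card' (G := (P : Subgroup (G ⧸ R))) 2 (by rw [hP4]; norm_num)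
    obtain ⟨t1, ht1P, ht1, hne01⟩ := exists_second_invol hQna P (t := (t0 : G ⧸ R))
      (by rw [Subgroup.orderOf_coe, ht0])
    have hPsq : ∀ v ∈ (P : Subgroup (G ⧸ R)), v * v = 1 := by
      intro v hv
      by_contra hvv
      obtain ⟨e, he⟩ := CfsgLib.CITGroups.exists_orderOf_eq_two_pow P.2 hv
      have he2 : 2 ≤ e := by
        by_contra h
        refine hvv ?_
        rw [← pow_two, ← orderOf_dvd_iff_pow_eq_one, he]
        exact pow_dvd_pow 2 (show e ≤ 1 by omega)
      have heq : zpowers v = (P : Subgroup (G ⧸ R)) := eq_of_le_of_card_ge (zpowers_le.2 hv) (by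
        rw [hP4, Nat.card_zpowers, he]
        exact (Nat.pow_le_pow_right two_pos he2 : 2 ^ 2 ≤ 2 ^ e))
      exact hne01 (invol_unique_zpowers (heq.ge ht1P) (heq.ge t0.2) ht1 (by rw [Subgroup.orderOf_coe, ht0]))
    obtain ⟨nb, hnb, ub, hub, hne⟩ := exists_noncentral hQna P (by rw [hQc]; norm_num)
    set wb := nb * ub * nb⁻¹ with hwb
    have hwbP : wb ∈ (P : Subgroup (G ⧸ R)) := (mem_normalizer_iff.1 hnb ub).1 hub
    have hub1 : ub ≠ 1 := fun e => hne (by rw [hwb, e, mul_one, mul_inv_cancel])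
    have hubo : orderOf ub = 2 := CfsgLib.CITGroups.orderOf_two_of_mul_self (hPsq ub hub) hub1
    have hwbo : orderOf wb = 2 := by rw [hwb, CfsgLib.Small.orderOf_conj_eq, hubo]
    have hwbu : wb ∉ zpowers ub := fun h => (mem_zpowers_invol hubo h).elim
      (CfsgLib.Small.ne_one_of_orderOf_two hwbo) hne
    have hgen : zpowers ub ⊔ zpowers wb = (P : Subgroup (G ⧸ R)) := by
      refine eq_of_le_of_card_ge (sup_le (zpowers_le.2 hub) (zpowers_le.2 hwbP)) ?_
      have hn : zpowers wb ≤ normalizer (zpowers ub : Set (G ⧸ R)) := by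
        rw [normalizer_zpowers_invol hubo, zpowers_le, mem_centralizer_singleton_iff,
          ← inv_eq_of_mul_eq_one_right (hPsq _ (mul_mem hub hwbP)), mul_inv_rev,
          inv_eq_of_mul_eq_one_right (hPsq _ hub), inv_eq_of_mul_eq_one_right (hPsq _ hwbP)]
      have hdis : zpowers ub ⊓ zpowers wb = ⊥ := (eq_bot_iff_forall _).2 fun z hz => by
        rcases mem_zpowers_invol hwbo hz.2 with h | h
        · exact h
        · exact absurd (h ▸ hz.1) hwbu
      rw [CfsgLib.Coprime.card_sup_eq hn hdis, Nat.card_zpowers, Nat.card_zpowers, hubo, hwbo, hP4]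
    obtain ⟨u, huL, hu⟩ := hlift ub
    obtain ⟨w, hwL, hw⟩ := hlift wb
    obtain ⟨n, hnL, hn⟩ := hlift nb
    set c := w * r with hc
    set H := zpowers u ⊔ zpowers c with hH
    have hπr : π r = 1 := (QuotientGroup.eq_one_iff r).2 hr
    have hπc : π c = wb := by rw [hc, map_mul, hw, hπr, mul_one]
    have hmap : H.map π = (P : Subgroup (G ⧸ R)) := by
      rw [hH, Subgroup.map_sup, MonoidHom.map_zpowers, MonoidHom.map_zpowers, hu, hπc, hgen]
    -- `H` is a two-group
    have hB : IsPGroup 2 (L ⊓ (P : Subgroup (G ⧸ R)).comap π : Subgroup G) := by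
      rintro ⟨z, hz⟩
      obtain ⟨hzL, hzP⟩ := mem_inf.1 hz
      refine ⟨2, Subtype.ext ?_⟩
      show z ^ 4 = 1
      have h1 : z * z ∈ R := (QuotientGroup.eq_one_iff _).1 (by
        rw [QuotientGroup.mk_mul]
        exact hPsq _ (mem_comap.1 hzP))
      rw [show z ^ 4 = z * z * (z * z) by simp [pow_succ, mul_assoc], hZ _ (mul_mem hzL hzL) h1]
    have hH2 : IsPGroup 2 H := by
      refine (hB.to_sup_of_normal_left' (isPGroup_zpowers hro) (zpowers_le.2 ?_)).to_le
        (sup_le (zpowers_le.2 (mem_sup_left (mem_inf.2 ⟨huL, mem_comap.2 (hu.symm ▸ hub)⟩))) (zpowers_le.2 ?_))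
      · exact mem_normalizer_of_conj fun z hz => by
          rw [← (hcomm z (mem_inf.1 hz).1 r hr).eq, mul_inv_cancel_right]
          exact hz
      · exact mul_mem (mem_sup_left (show w ∈ L ⊓ (P : Subgroup (G ⧸ R)).comap π from
          mem_inf.2 ⟨hwL, mem_comap.2 (hw.symm ▸ hwbP)⟩)) (mem_sup_right (mem_zpowers r))
    have hHR : ¬ H ≤ R := fun h => hub1 (by
      rw [← hu]
      exact (QuotientGroup.eq_one_iff u).2 (h (mem_sup_left (mem_zpowers u))))
    have hne' : (normalizer ((P : Subgroup (G ⧸ R)) : Set (G ⧸ R))).comap π ≠ ⊤ := by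
      intro e
      have h := congrArg (Subgroup.map π) e
      rw [map_comap_eq_self_of_surjective hπ, map_top_of_surjective π hπ] at h
      exact hG.quotient.normalizer_ne_top (.of_isPGroup Nat.prime_two P.2)
        (fun e' => by rw [e', card_bot] at hP4; omega) h
    have hle : normalizer (H : Set G) ≤ (normalizer ((P : Subgroup (G ⧸ R)) : Set (G ⧸ R))).comap π :=
      fun g hg => hmap ▸ le_normalizer_map π ⟨g, hg, rfl⟩
    have hnN : n ∈ normalizer (H : Set G) := by
      rw [eq_of_coatom_le (hG.coatom H (.of_isPGroup Nat.prime_two hH2) hHR) hle hne', mem_comap, hn]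
      exact hnb
    have hmem : n * u * n⁻¹ ∈ H := (mem_normalizer_iff.1 hnN u).1 (mem_sup_left (mem_zpowers u))
    have hmL : n * u * n⁻¹ ∈ L := L.mul_mem (L.mul_mem hnL huL) (L.inv_mem hnL)
    have hmw : π (n * u * n⁻¹) = wb := by rw [map_mul, map_mul, map_inv, hn, hu]
    -- the part of `H` in `L`
    set K₀ := L ⊓ (zpowers ub).comap π with hK₀
    have hcu : Commute wb ub := by
      show wb * ub = ub * wb
      rw [← inv_eq_of_mul_eq_one_right (hPsq _ (mul_mem hub hwbP)), mul_inv_rev,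
        inv_eq_of_mul_eq_one_right (hPsq _ hub), inv_eq_of_mul_eq_one_right (hPsq _ hwbP)]
    have hcN : c ∈ normalizer (K₀ : Set G) := mem_normalizer_of_conj fun z hz => by
      obtain ⟨hzL, hzu⟩ := mem_inf.1 hz
      obtain ⟨i, hi⟩ := mem_comap.1 hzu
      refine mem_inf.2 ⟨(inferInstance : L.Normal).conj_mem z hzL c, ⟨i, ?_⟩⟩
      show ub ^ i = π (c * z * c⁻¹)
      rw [map_mul, map_mul, map_inv, hπc, show π z = ub ^ i from hi.symm, (hcu.zpow_right i).eq,
        mul_inv_cancel_right]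
    have hcc : c * c ∈ K₀ := by
      refine mem_inf.2 ⟨?_, ?_⟩
      · rw [hc, show w * r * (w * r) = w * (r * w) * r by group, (hcomm w hwL r hr).symm.eq,
          show w * (w * r) * r = w * w * (r * r) by group]
        exact mul_mem (mul_mem hwL hwL) hr2
      · rw [mem_comap, map_mul, hπc, hPsq wb hwbP]
        exact one_mem _
    have hsup : H ≤ K₀ ⊔ zpowers c := sup_le (zpowers_le.2 (mem_sup_left
      (mem_inf.2 ⟨huL, mem_comap.2 (hu.symm ▸ mem_zpowers ub)⟩))) le_sup_right
    have h := hsup hmem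
    rw [← SetLike.mem_coe, coe_mul_of_right_le_normalizer_left K₀ (zpowers c) (zpowers_le.2 hcN)] at h
    obtain ⟨z, hz, _, ⟨i, rfl⟩, he⟩ := h
    have he' : z * c ^ i = n * u * n⁻¹ := he
    have hpow : ∀ m : ℤ, (c * c) ^ m = c ^ (2 * m) := fun m => by rw [zpow_mul, zpow_two]
    obtain ⟨m, hm | hm⟩ := Int.even_or_odd' i
    · have hin : z * c ^ i ∈ K₀ := mul_mem hz (hm ▸ hpow m ▸ zpow_mem hcc m)
      rw [he'] at hin
      exact hwbu (hmw ▸ mem_comap.1 (mem_inf.1 hin).2)
    · subst hm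
      rw [zpow_add, zpow_one, ← hpow, ← mul_assoc] at he'
      have hzL : z * (c * c) ^ m ∈ L := L.mul_mem (mem_inf.1 hz).1 (L.zpow_mem (mem_inf.1 hcc).1 m)
      have hcL : c ∈ L := (L.mul_mem_cancel_left hzL).1 (he' ▸ hmL)
      exact hrL ((L.mul_mem_cancel_left hwL).1 hcL)

omit hL in
theorem isMulCommutative_of_primePow {H : Subgroup G}
    (h : ∀ r ∈ H, ∀ s ∈ H, (∃ p k : ℕ, p.Prime ∧ orderOf r = p ^ k) →
      (∃ p k : ℕ, p.Prime ∧ orderOf s = p ^ k) → Commute r s) :
    ∀ a ∈ H, ∀ b ∈ H, Commute a b := by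
  -- the centraliser of an element contains every Sylow subgroup
  have key : ∀ b ∈ H, (∀ s ∈ H, (∃ p k : ℕ, p.Prime ∧ orderOf s = p ^ k) → Commute s b) →
      ∀ a ∈ H, Commute a b := by
    intro b _ hb a ha
    set C := (centralizer ({b} : Set G)).subgroupOf H with hC
    have htop : C = ⊤ := by
      rw [← index_eq_one]
      by_contra hne
      obtain ⟨p, hp, hpd⟩ := Nat.exists_prime_and_dvd hne
      haveI := Fact.mk hp
      obtain ⟨P⟩ : Nonempty (Sylow p H) := inferInstance
      refine P.not_dvd_index (hpd.trans (index_dvd_of_le fun s hs => ?_))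
      obtain ⟨k, hk⟩ := IsPGroup.iff_orderOf.1 P.2 ⟨s, hs⟩
      rw [Subgroup.orderOf_mk, ← Subgroup.orderOf_coe] at hk
      exact mem_subgroupOf.2 (mem_centralizer_singleton_iff.2 (hb s s.2 ⟨p, k, hp, hk⟩).eq)
    exact mem_centralizer_singleton_iff.1 (mem_subgroupOf.1 (htop ▸ mem_top (⟨a, ha⟩ : H)))
  intro a ha b hb
  exact key b hb (fun s hs hps => (key s hs (fun s' hs' hps' => h s' hs' s hs hps' hps) b hb).symm) a ha

/-- The radical is abelian. -/
theorem radical_comm : ∀ a ∈ R, ∀ b ∈ R, Commute a b := by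
  refine isMulCommutative_of_primePow hG L hLR hcomm hZ fun r hr s hs ⟨p, i, hp, hro⟩ ⟨q, j, hq, hso⟩ => ?_
  have h1 := conj_mem_zpowers_radical hG L hLR hcomm hZ hL hr hp hro hs
  have h2 := conj_mem_zpowers_radical hG L hLR hcomm hZ hL hs hq hso hr
  haveI := Fact.mk hp
  haveI := Fact.mk hq
  by_cases hpq : p = q
  · subst hpq
    by_cases hp2 : p = 2
    · subst hp2
      exact hcomm r (two_mem_residual hG L hLR hcomm hZ hL hr hro) s hs
    by_contra hne
    have hn : zpowers s ≤ normalizer (zpowers r : Set G) := zpowers_le.2 (mem_normalizer_of_conj (by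
      rintro _ ⟨l, rfl⟩
      show s * r ^ l * s⁻¹ ∈ zpowers r
      rw [← conj_zpow]
      exact zpow_mem h1 l))
    set P := zpowers r ⊔ zpowers s with hP
    have hPR : P ≤ R := sup_le (zpowers_le.2 hr) (zpowers_le.2 hs)
    have hPp : IsPGroup p P := (isPGroup_zpowers hro).to_sup_of_normal_left' (isPGroup_zpowers hso) hn
    have hnorm : ∀ K : Subgroup P, K.Normal := fun K => ⟨fun z hz g => by
      obtain ⟨l, hl⟩ := IsPGroup.iff_orderOf.1 hPp z
      rw [← Subgroup.orderOf_coe] at hl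
      obtain ⟨m, hm⟩ := conj_mem_zpowers_radical hG L hLR hcomm hZ hL (hPR z.2) hp hl (hPR g.2)
      have : g * z * g⁻¹ = z ^ m := Subtype.ext (by
        show (g : G) * z * (g : G)⁻¹ = ((z ^ m : P) : G)
        rw [SubgroupClass.coe_zpow]
        exact hm.symm)
      exact this ▸ K.zpow_mem hz m⟩
    refine hp2 (CfsgLib.Hamiltonian.quaternion_of_not_commute hnorm hp
      (x := ⟨r, mem_sup_left (mem_zpowers r)⟩) (y := ⟨s, mem_sup_right (mem_zpowers s)⟩)
      ⟨i, by rw [Subgroup.orderOf_mk, hro]⟩ ⟨j, by rw [Subgroup.orderOf_mk, hso]⟩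
      fun h => hne (congrArg Subtype.val h : r * s = s * r)).1
  · have hd := IsPGroup.disjoint_of_ne p q hpq _ _ (isPGroup_zpowers hro) (isPGroup_zpowers hso)
    have hc : r * s * r⁻¹ * s⁻¹ ∈ zpowers r ⊓ zpowers s := by
      refine mem_inf.2 ⟨?_, mul_mem h2 (inv_mem (mem_zpowers s))⟩
      rw [show r * s * r⁻¹ * s⁻¹ = r * (s * r * s⁻¹)⁻¹ by group]
      exact mul_mem (mem_zpowers r) (inv_mem h1)
    rw [hd.eq_bot, mem_bot, mul_inv_eq_one, mul_inv_eq_iff_eq_mul] at hc
    exact hc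

end CfsgLib.MaxNormalizer
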