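import Cfsg.Agent.MaxNormalizer.CentralCase
import Cfsg.Agent.S0111

/-!
# A Sylow subgroup of `C(t)` is one of the group

Otherwise an element normalising it gives an involution `z` of `T` with a two-group centraliser
`W`; then `z` is not isolated, which forces `W` dihedral of order eight, against the transfer lemma.
-/

set_option autoImplicit false
set_option linter.style.haveILetI false
set_option linter.unusedSectionVars false

namespace CfsgLib.MaxNormalizer

open Subgroup
open CfsgLib.Small (mul_self_of_orderOf_two ne_one_of_orderOf_two orderOf_conj_eq)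
open CfsgLib.CITGroups (exists_orderOf_eq_two_pow orderOf_two_of_mul_self)

variable {G : Type*} [Group G] [Finite G]

theorem mem_zpowers_of_coprime {g : G} {k : ℕ} (h : k.Coprime (orderOf g)) :
    g ∈ zpowers (g ^ k) := by
  obtain ⟨m, hm⟩ := exists_pow_eq_self_of_coprime h
  exact ⟨(m : ℤ), by show (g ^ k) ^ (m : ℤ) = g; rw [zpow_natCast, hm]⟩

theorem isPGroup_of_not_hasOdd {z : G} (h : ¬ HasOdd z) :
    IsPGroup 2 (centralizer ({z} : Set G)) := by
  refine CfsgLib.CITGroups.isPGroup_two_of_forall fun g hg hgo => ?_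
  by_contra hg1
  obtain ⟨p, i, hp, hp2, hpo⟩ := CfsgLib.CITGroups.exists_prime_pow hgo hg1
  exact h ⟨g ^ i, pow_mem hg i, p, hp, hp2, hpo⟩

/-- Conjugate involutions cannot have centralisers one a two-group and one not. -/
theorem not_conj_of_hasOdd {z t : G} (hW : IsPGroup 2 (centralizer ({z} : Set G))) (h : HasOdd t)
    (g : G) : g * z * g⁻¹ ≠ t := by
  intro e
  obtain ⟨y, hyM, hy⟩ := h
  rw [← e, centralizer_conj_iff] at hyM
  have ho : orderOf (g⁻¹ * y * g) = orderOf y := by
    have := orderOf_conj_eq g⁻¹ y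
    rwa [inv_inv] at this
  have h1 := CfsgLib.CITGroups.eq_one_of_odd_mem hW hyM (ho ▸ hy.odd)
  rw [h1, orderOf_one] at ho
  exact hy.ne_one (orderOf_eq_one_iff.1 ho.symm)

variable (hG : MN G) {t : G} (ht : orderOf t = 2) {a : G} (ha : orderOf a = 2)
  (haM : a ∈ centralizer ({t} : Set G)) (haE : ¬ InE t a) {y : G} (hy : OddEl y)
  (hyM : y ∈ centralizer ({t} : Set G))
include hG ht ha haM haE hy hyM

/-- The involutions of an abelian two-subgroup of `C(t)`. -/
theorem invol_cases {u : G} (huo : orderOf u = 2) (huM : u ∈ centralizer ({t} : Set G))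
    (hc : Commute u a) : u = t ∨ u = a ∨ u = a * t := by
  by_cases hE : InE t u
  · rcases inE_eq hG ht ha haM haE hy hyM hE with h | h
    · exact absurd h (ne_one_of_orderOf_two huo)
    · exact Or.inl h
  have haa := mul_self_of_orderOf_two ha
  have hsq : a * u * (a * u) = 1 := by
    rw [show a * u * (a * u) = a * (u * a) * u by group, hc.eq,
      show a * (a * u) * u = a * a * (u * u) by group, haa, mul_self_of_orderOf_two huo, one_mul]
  have huE : ∀ v, v = a * u → InE t v := by
    intro v hv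
    by_cases h1 : v = 1
    · subst h1
      exact ⟨one_mem _, one_mul 1, fun m _ => Commute.one_right m⟩
    refine inE_of_commute hG ht (orderOf_two_of_mul_self (hv ▸ hsq) h1) (hv ▸ mul_mem haM huM) hy hyM ?_
    have h2 : v * y * v⁻¹ = y := by
      rw [hv]
      calc a * u * y * (a * u)⁻¹ = a * (u * y * u⁻¹) * a⁻¹ := by group
        _ = y := by
          rw [inverts hG ht huo huM hE hy hyM, ← conj_inv, inverts hG ht ha haM haE hy hyM, inv_inv]
    exact (mul_inv_eq_iff_eq_mul.1 h2).symm
  rcases inE_eq hG ht ha haM haE hy hyM (huE _ rfl) with h | h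
  · exact Or.inr (Or.inl (by rw [eq_inv_of_mul_eq_one_right h, inv_eq_of_mul_eq_one_right haa]))
  · refine Or.inr (Or.inr ?_)
    rw [← h, ← mul_assoc, haa, one_mul]

/-- `t` is not a proper power in a two-subgroup. -/
theorem mul_self_of_pow_eq {g : G} {k n : ℕ} (hgM : g ∈ centralizer ({t} : Set G))
    (hg : orderOf g = 2 ^ k) (hn : g ^ n = t) : g * g = 1 :=
  (inE_of_two hG ht ha haM haE hy hyM hgM hg (commute_of_inE_pow hG ht hgM hg (n := n)
    (by rw [hn, ht]) (by rw [hn]; exact inE_self hG ht) hy hyM)).2.1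

omit ha haM haE

/-- A maximal two-subgroup of `C(t)` is a Sylow subgroup of `G`, for an involution of `T`. -/
theorem sylow_of_maximal (T : Subgroup G) [T.Normal] [IsSimpleGroup T]
    (hna : ¬ IsMulCommutative T) (htT : t ∈ T) {S : Subgroup G} (hS : IsPGroup 2 S)
    (hSM : S ≤ centralizer ({t} : Set G))
    (hmax : ∀ Q : Subgroup G, IsPGroup 2 Q → Q ≤ centralizer ({t} : Set G) → S ≤ Q → Q = S)
    (htS : t ∈ S) {P : Subgroup G} (hP : IsPGroup 2 P) (hSP : S ≤ P) : P = S := by
  haveI : Fact (Nat.Prime 2) := ⟨Nat.prime_two⟩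
  by_contra hne
  obtain ⟨n, hnP, hnN, hnM⟩ := exists_normalizing_of_lt hS hSM hmax hP hSP (Ne.symm hne)
  set a := n * t * n⁻¹ with hadef
  have haS : a ∈ S := (mem_normalizer_iff.1 hnN t).1 htS
  have haM := hSM haS
  have hao : orderOf a = 2 := by rw [hadef, orderOf_conj_eq, ht]
  have haE : ¬ InE t a := fun hE => hnM (hG.mem_of_centralizer_conj ht
    (inE_centralizer hG ht hE (ne_one_of_orderOf_two hao)))
  have haT : a ∈ T := (inferInstance : T.Normal).conj_mem t htT n
  have hSc := two_commute hG ht hao haM haE hy hyM hS hSM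
  have htt := mul_self_of_orderOf_two ht
  have haa := mul_self_of_orderOf_two hao
  have hat : Commute a t := hSc a haS t htS
  have hta : t ≠ a := fun e => hnM (mem_centralizer_singleton_iff.2
    (mul_inv_eq_iff_eq_mul.1 (hadef.symm.trans e.symm)))
  set z := a * t with hzdef
  have hzS : z ∈ S := mul_mem haS htS
  have hzz : z * z = 1 := by
    rw [hzdef, show a * t * (a * t) = a * (t * a) * t by group, ← hat.eq,
      show a * (a * t) * t = a * a * (t * t) by group, haa, htt, one_mul]
  have hz1 : z ≠ 1 := fun e => hta (by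
    rw [eq_inv_of_mul_eq_one_right e, inv_eq_of_mul_eq_one_right haa])
  have hzo := orderOf_two_of_mul_self hzz hz1
  have hzT : z ∈ T := mul_mem haT htT
  have hza : z ≠ a := fun e => ne_one_of_orderOf_two ht (mul_eq_left.1 e)
  have hzt : z ≠ t := fun e => ne_one_of_orderOf_two hao (mul_eq_right.1 e)
  -- involutions of `S`
  have hcases : ∀ u ∈ S, u * u = 1 → u = 1 ∨ u = t ∨ u = a ∨ u = z := by
    intro u hu huu
    by_cases h1 : u = 1
    · exact Or.inl h1
    exact Or.inr (invol_cases hG ht hao haM haE hy hyM (orderOf_two_of_mul_self huu h1) (hSM hu)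
      (hSc u hu a haS))
  have hcases' : ∀ m ∈ normalizer (S : Set G), ∀ u ∈ S, orderOf u = 2 →
      m * u * m⁻¹ = t ∨ m * u * m⁻¹ = a ∨ m * u * m⁻¹ = z := by
    intro m hm u hu huo
    have ho : orderOf (m * u * m⁻¹) = 2 := by rw [orderOf_conj_eq, huo]
    exact (hcases _ ((mem_normalizer_iff.1 hm u).1 hu) (mul_self_of_orderOf_two ho)).resolve_left
      (ne_one_of_orderOf_two ho)
  -- `n` fixes `z`
  have hnz : n * z * n⁻¹ = z := by
    rcases hcases' n hnN a haS hao with h | h | h
    · have : n * z * n⁻¹ = (n * a * n⁻¹) * (n * t * n⁻¹) := by rw [hzdef]; group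
      rw [this, h, ← hadef]
      exact hat.eq.symm
    · exact absurd (mul_left_cancel (mul_right_cancel (hadef.symm.trans h.symm))) hta
    · exfalso
      have h3 : n ^ 3 ∈ centralizer ({t} : Set G) := by
        refine mem_centralizer_singleton_iff.2 (mul_inv_eq_iff_eq_mul.1 ?_)
        calc n ^ 3 * t * (n ^ 3)⁻¹ = n * (n * (n * t * n⁻¹) * n⁻¹) * n⁻¹ := by
              rw [pow_succ, pow_two]; group
          _ = (n * a * n⁻¹) * (n * t * n⁻¹) := by
              rw [← hadef, h]
              calc n * z * n⁻¹ = (n * a * n⁻¹) * (n * t * n⁻¹) := by rw [hzdef]; group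
                _ = z * a := by rw [h, ← hadef]
          _ = t := by rw [← hadef, h, hzdef, mul_assoc, ← hat.eq, ← mul_assoc, haa, one_mul]
      obtain ⟨k, hk⟩ := exists_orderOf_eq_two_pow hP hnP
      exact hnM ((zpowers_le.2 h3)
        (mem_zpowers_of_coprime (k := 3) (hk ▸ (by norm_num : Nat.Coprime 3 2).pow_right k)))
  have hnC : n ∈ centralizer ({z} : Set G) :=
    mem_centralizer_singleton_iff.2 (mul_inv_eq_iff_eq_mul.1 hnz)
  have hSW : S ≤ centralizer ({z} : Set G) := fun s hs =>
    mem_centralizer_singleton_iff.2 (hSc s hs z hzS).eq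
  -- the centraliser of `z` is a two-group
  have hWodd : ¬ HasOdd z := by
    rintro ⟨x, hxW, hx⟩
    obtain ⟨b, hbW, hbo, hbE⟩ := exists_outer hG T hna hzo hzT
    have hU : IsPGroup 2 (S ⊔ zpowers n : Subgroup G) :=
      hP.to_le (sup_le hSP (zpowers_le.2 hnP))
    have h := two_commute hG hzo hbo hbW hbE hx hxW hU (sup_le hSW (zpowers_le.2 hnC)) n
      (mem_sup_right (mem_zpowers n)) t (mem_sup_left htS)
    exact hnM (mem_centralizer_singleton_iff.2 h.eq)
  have hW := isPGroup_of_not_hasOdd hWodd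
  set W := centralizer ({z} : Set G) with hWdef
  have htodd : HasOdd t := ⟨y, hyM, hy⟩
  have hnotconj : ∀ g : G, g * z * g⁻¹ ≠ t ∧ g * z * g⁻¹ ≠ a := by
    intro g
    refine ⟨not_conj_of_hasOdd hW htodd g, fun e => not_conj_of_hasOdd hW htodd (n⁻¹ * g) ?_⟩
    calc n⁻¹ * g * z * (n⁻¹ * g)⁻¹ = n⁻¹ * (g * z * g⁻¹) * n := by group
      _ = t := by rw [e, hadef]; group
  have hWN : normalizer (S : Set G) = W := by
    refine eq_of_coatom_le (hG.coatom S (.of_isPGroup Nat.prime_two hS)
      fun e => ne_one_of_orderOf_two ht (mem_bot.1 (e ▸ htS))) ?_ (hG.coatom_centralizer hzo).1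
    intro m hm
    rcases hcases' m hm z hzS hzo with h | h | h
    · exact absurd h (hnotconj m).1
    · exact absurd h (hnotconj m).2
    · exact mem_centralizer_singleton_iff.2 (mul_inv_eq_iff_eq_mul.1 h)
  have hWM : ∀ m ∈ W, m ∈ centralizer ({t} : Set G) → m ∈ S := fun m hm hmM => by
    have := hmax (W ⊓ centralizer ({t} : Set G)) hW.to_inf_left inf_le_right (le_inf hSW hSM)
    exact this ▸ ⟨hm, hmM⟩
  have hswap : ∀ m ∈ W, m ∉ S → m * t * m⁻¹ = a ∧ m * a * m⁻¹ = t := by
    intro m hm hmS
    have hmN : m ∈ normalizer (S : Set G) := hWN ▸ hm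
    have hmz : m * z * m⁻¹ = z :=
      mul_inv_eq_iff_eq_mul.2 (mem_centralizer_singleton_iff.1 hm)
    have h1 : m * t * m⁻¹ = a := by
      rcases hcases' m hmN t htS ht with h | h | h
      · exact absurd (hWM m hm (mem_centralizer_singleton_iff.2 (mul_inv_eq_iff_eq_mul.1 h))) hmS
      · exact h
      · exact absurd (mul_left_cancel (mul_right_cancel (h.trans hmz.symm))) hzt.symm
    refine ⟨h1, ?_⟩
    rcases hcases' m hmN a haS hao with h | h | h
    · exact h
    · exact absurd (mul_left_cancel (mul_right_cancel (h.trans h1.symm))) hta.symm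
    · exact absurd (mul_left_cancel (mul_right_cancel (h.trans hmz.symm))) hza.symm
  have hidx : ∀ m ∈ W, ∀ m' ∈ W, m ∉ S → m' ∉ S → m * m' ∈ S := by
    intro m hm m' hm' hmS hmS'
    refine hWM _ (mul_mem hm hm') (mem_centralizer_singleton_iff.2 (mul_inv_eq_iff_eq_mul.1 ?_))
    calc m * m' * t * (m * m')⁻¹ = m * (m' * t * m'⁻¹) * m⁻¹ := by group
      _ = t := by rw [(hswap m' hm' hmS').1, (hswap m hm hmS).2]
  have hnW : n ∈ W := hnC
  -- involution powers
  have hpow : ∀ e ∈ W, e * e ≠ 1 → ∀ i : ℕ, orderOf (e ^ i) = 2 → e ^ i = z := by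
    intro e he hee i hi
    obtain ⟨k, hk⟩ := exists_orderOf_eq_two_pow hW he
    have hiS : e ^ i ∈ S := by
      obtain ⟨j, rfl⟩ : Even i := by
        by_contra hne
        rw [Nat.not_even_iff_odd] at hne
        have hco : Nat.Coprime i (orderOf e) := hk ▸ hne.coprime_two_right.pow_right k
        refine hee ?_
        rw [← pow_two, ← orderOf_dvd_iff_pow_eq_one, ← hi, hco.symm.orderOf_pow]
      rw [← two_mul, pow_mul, pow_two]
      refine pow_mem ?_ j
      by_cases h : e ∈ S
      · exact mul_mem h h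
      · exact hidx e he e he h h
    have hmain : ∀ f ∈ W, f * f ≠ 1 → ∀ l, orderOf f = 2 ^ l → f ^ i ≠ t := fun f hf hff l hl hft => by
      have hfM : f ∈ centralizer ({t} : Set G) :=
        mem_centralizer_singleton_iff.2 (hft ▸ (Commute.refl f).pow_right i).eq
      exact hff (mul_self_of_pow_eq hG ht hao haM haE hy hyM hfM hl hft)
    rcases (hcases _ hiS (mul_self_of_orderOf_two hi)).resolve_left (ne_one_of_orderOf_two hi) with
      h | h | h
    · exact absurd h (hmain e he hee k hk)
    · exfalso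
      refine hmain (n⁻¹ * e * n) (mul_mem (mul_mem (inv_mem hnW) he) hnW) ?_ k ?_ ?_
      · intro h1
        refine hee ?_
        calc e * e = n * ((n⁻¹ * e * n) * (n⁻¹ * e * n)) * n⁻¹ := by group
          _ = 1 := by rw [h1, mul_one, mul_inv_cancel]
      · rw [← hk]
        have := orderOf_conj_eq n⁻¹ e
        rwa [inv_inv] at this
      · have : (n⁻¹ * e * n) ^ i = n⁻¹ * e ^ i * n := by
          have := conj_pow (i := i) (a := n⁻¹) (b := e)
          rwa [inv_inv] at this
        rw [this, h, hadef]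
        group
    · exact h
  -- `z` is not isolated
  obtain ⟨Q, hQ⟩ := exists_sylow_normal
    ⟨W, hW, fun {P} hP hle => hG.two_maximal (hG.coatom_centralizer hzo) hP hle⟩ T
  have hzW : z ∈ W := mem_centralizer_singleton_iff.2 rfl
  obtain ⟨g, hgQ, hgne⟩ := not_isolated hna Q (u := ⟨z, hzT⟩) (coe_orderOf_two.1 hzo)
    ((hQ _).2 hzW)
  set w := (g : G) * z * (g : G)⁻¹ with hwdef
  have hwW : w ∈ W := (hQ _).1 hgQ
  have hwz : w ≠ z := fun e => hgne (Subtype.ext e)
  have hwo : orderOf w = 2 := by rw [hwdef, orderOf_conj_eq, hzo]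
  have hww := mul_self_of_orderOf_two hwo
  have hwi : w⁻¹ = w := inv_eq_of_mul_eq_one_right hww
  have hwS : w ∉ S := fun h => by
    rcases (hcases w h hww).resolve_left (ne_one_of_orderOf_two hwo) with e | e | e
    · exact (hnotconj g).1 e
    · exact (hnotconj g).2 e
    · exact hwz e
  obtain ⟨hwt, hwa⟩ := hswap w hwW hwS
  have hcw : ∀ e ∈ W, Commute e w → e * e = 1 := by
    intro e he hc
    by_contra hee
    obtain ⟨k, hk⟩ := exists_orderOf_eq_two_pow hW he
    obtain ⟨i, hi⟩ := exists_invol_pow hk fun h => hee (by rw [h, one_mul])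
    have h1 := hpow e he hee i hi
    have he' : (g : G)⁻¹ * e * g ∈ W := centralizer_conj_iff.1 (mem_centralizer_singleton_iff.2 hc.eq)
    have hci : ((g : G)⁻¹ * e * g) ^ i = (g : G)⁻¹ * e ^ i * g := by
      have := conj_pow (i := i) (a := (g : G)⁻¹) (b := e)
      rwa [inv_inv] at this
    have h2 := hpow _ he' (fun h => hee (by
        calc e * e = (g : G) * (((g : G)⁻¹ * e * g) * ((g : G)⁻¹ * e * g)) * (g : G)⁻¹ := by group
          _ = 1 := by rw [h, mul_one, mul_inv_cancel])) i (by
        rw [hci]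
        have := orderOf_conj_eq (g : G)⁻¹ (e ^ i)
        rw [inv_inv] at this
        rw [this, hi])
    rw [hci, h1] at h2
    refine hwz ?_
    calc w = (g : G) * ((g : G)⁻¹ * z * g) * (g : G)⁻¹ := by rw [h2]
      _ = z := by group
  -- hence `S` is a four group
  have hSsq : ∀ s ∈ S, s * s = 1 := by
    intro s hs
    by_contra hss
    obtain ⟨k, hk⟩ := exists_orderOf_eq_two_pow hS hs
    have hk2 : 2 ≤ k := by
      by_contra h
      refine hss ?_
      rw [← pow_two, ← orderOf_dvd_iff_pow_eq_one, hk]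
      exact pow_dvd_pow 2 (show k ≤ 1 by omega)
    set i := s ^ 2 ^ (k - 2) with hidef
    have hiS : i ∈ S := pow_mem hs _
    have hio : orderOf i = 4 := by
      rw [hidef, orderOf_pow, hk, Nat.gcd_eq_right (pow_dvd_pow 2 (Nat.sub_le _ _)),
        Nat.pow_div (Nat.sub_le _ _) two_pos, show k - (k - 2) = 2 by omega]
      norm_num
    have hi2 : i * i ≠ 1 := fun e => by
      have : orderOf i ∣ 2 := orderOf_dvd_of_pow_eq_one (by rw [pow_two, e])
      rw [hio] at this
      norm_num at this
    have hii : i * i = z := by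
      rw [← pow_two]
      exact hpow i (hSW hiS) hi2 2 (by rw [orderOf_pow, hio]; rfl)
    set f := w * i * w⁻¹ with hfdef
    have hfS : f ∈ S := (mem_normalizer_iff.1 (hWN ▸ hwW : w ∈ normalizer (S : Set G)) i).1 hiS
    have hwf : w * f * w⁻¹ = i := by
      rw [hfdef, show w * (w * i * w⁻¹) * w⁻¹ = w * w * i * (w * w)⁻¹ by group, hww, one_mul, inv_one,
        mul_one]
    have hwif : Commute (i * f) w := by
      refine ((mul_inv_eq_iff_eq_mul (a := w * (i * f))).1 ?_).symm
      calc w * (i * f) * w⁻¹ = (w * i * w⁻¹) * (w * f * w⁻¹) := by group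
        _ = i * f := by rw [hwf, ← hfdef, (hSc f hfS i hiS).eq]
    have hsq := hcw _ (hSW (mul_mem hiS hfS)) hwif
    have hzi : Commute z i := hSc z hzS i hiS
    rcases hcases _ (mul_mem hiS hfS) hsq with h | h | h | h
    · -- `w` inverts `i`, so fixes `i t`
      have hfi : f = i⁻¹ := eq_inv_of_mul_eq_one_right h
      have hiz : i⁻¹ = i * z := by
        refine inv_eq_of_mul_eq_one_right ?_
        rw [← mul_assoc, hii, hzz]
      have hwit : Commute (i * t) w := by
        refine ((mul_inv_eq_iff_eq_mul (a := w * (i * t))).1 ?_).symm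
        calc w * (i * t) * w⁻¹ = (w * i * w⁻¹) * (w * t * w⁻¹) := by group
          _ = i * z * a := by rw [← hfdef, hfi, hiz, hwt]
          _ = i * t := by
            rw [mul_assoc, hzdef, mul_assoc, ← hat.eq, ← mul_assoc a, haa, one_mul]
      have := hcw _ (hSW (mul_mem hiS htS)) hwit
      rw [show i * t * (i * t) = i * (t * i) * t by group, (hSc t htS i hiS).eq,
        show i * (i * t) * t = i * i * (t * t) by group, htt, mul_one, hii] at this
      exact hz1 this
    · refine hta ?_
      rw [h] at hwif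
      rw [← hwt, ← hwif.eq, mul_inv_cancel_right]
    · refine hta.symm ?_
      rw [h] at hwif
      rw [← hwa, ← hwif.eq, mul_inv_cancel_right]
    · -- `w` fixes `i`
      have hfi : f = i := by
        refine mul_left_cancel (a := i) ?_
        rw [h, hii]
      refine hi2 (hcw i (hSW hiS) ?_)
      exact ((mul_inv_eq_iff_eq_mul).1 hfi).symm
  -- the transfer lemma
  set e := w * t with hedef
  have hee : e * e = z := by
    rw [hedef, hzdef, show w * t * (w * t) = (w * t * w⁻¹) * (w * w) * t by group, hwt, hww, mul_one]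
  have heT : e ∈ T := mul_mem (mul_mem (mul_mem g.2 hzT) (inv_mem g.2)) htT
  have htW : t ∈ W := hSW htS
  have heW : e ∈ W := mul_mem hwW htW
  set R := zpowers (⟨e, heT⟩ : T) with hRdef
  have hmemR : ∀ x : T, x ∈ R ↔ (x : G) ∈ zpowers e := fun x => by
    constructor
    · rintro ⟨i, rfl⟩; exact ⟨i, rfl⟩
    · rintro ⟨i, hi⟩; exact ⟨i, Subtype.ext hi⟩
  have hzR : z ∈ zpowers e := hee ▸ mul_mem (mem_zpowers e) (mem_zpowers e)
  have htR : t ∉ zpowers e := fun h => hzt (invol_unique_zpowers hzR h hzo ht)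
  have hcover : ∀ x ∈ W, x ∈ zpowers e ∨ x * t ∈ zpowers e := by
    have hSc2 : ∀ s ∈ S, s ∈ zpowers e ∨ s * t ∈ zpowers e := by
      intro s hs
      rcases hcases s hs (hSsq s hs) with rfl | rfl | rfl | rfl
      · exact Or.inl (one_mem _)
      · exact Or.inr (by rw [htt]; exact one_mem _)
      · exact Or.inr hzR
      · exact Or.inl hzR
    intro x hx
    by_cases hxS : x ∈ S
    · exact hSc2 x hxS
    · have heS : e ∉ S := fun h => hwS ((mul_mem_cancel_right htS).1 h)
      have h1 : e * x ∈ S := hidx e heW x hx heS hxS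
      rcases hSc2 _ h1 with h | h
      · exact Or.inl ((mul_mem_cancel_left (mem_zpowers e)).1 h)
      · exact Or.inr ((mul_mem_cancel_left (mem_zpowers e)).1 (by rwa [← mul_assoc]))
  have hRQ : R ≤ (Q : Subgroup T) := zpowers_le.2 ((hQ _).2 heW)
  have htQ : (⟨t, htT⟩ : T) ∈ (Q : Subgroup T) := (hQ _).2 htW
  have hrel : R.relIndex (Q : Subgroup T) = 2 := by
    refine index_eq_two_iff.2 ⟨⟨⟨t, htT⟩, htQ⟩, fun b => ?_⟩
    simp only [mem_subgroupOf, hmemR]
    show Xor (((b : T) : G) * t ∈ zpowers e) (((b : T) : G) ∈ zpowers e)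
    rcases hcover _ ((hQ _).1 b.2) with h | h
    · exact Or.inr ⟨h, fun h' => htR ((mul_mem_cancel_left h).1 h')⟩
    · exact Or.inl ⟨h, fun h' => htR ((mul_mem_cancel_left h').1 h)⟩
  rcases Cfsg.Agent.S0111.result Q R hRQ hrel ⟨t, htT⟩ (coe_orderOf_two.1 ht) htQ
    (fun h => htR ((hmemR _).1 h)) with ⟨N, hN, hN2, -⟩ | ⟨k, hk⟩
  · rcases hN.eq_bot_or_eq_top with h | h
    · rw [h, index_bot] at hN2
      haveI := isCyclic_of_prime_card hN2
      exact hna IsCyclic.isMulCommutative
    · rw [h, index_top] at hN2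
      omega
  · have hkR : (k : G) * t * (k : G)⁻¹ ∈ zpowers e := (hmemR _).1 hk
    have h := invol_unique_zpowers hkR hzR (by rw [orderOf_conj_eq, ht]) hzo
    refine (hnotconj (k : G)⁻¹).1 ?_
    rw [← h]
    group

end CfsgLib.MaxNormalizer
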