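import Cfsg.Agent.MaxNormalizer.Basic
import Cfsg.Agent.Components.FStar
import Cfsg.Agent.FT.HallSeparable
import Cfsg.Agent.S4112

/-!
# The quotient by the solvable radical

If every subgroup of two-prime order outside the radical has a maximal normaliser, the radical
normalises it and the quotient satisfies `MN`.
-/

set_option autoImplicit false
set_option linter.style.haveILetI false
set_option linter.unusedSectionVars false

namespace CfsgLib.MaxNormalizer

open Subgroup
open CfsgLib.Components (solvRadical le_solvRadical isSolvable_solvRadical le_solvRadical_of_isSubnormal)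

variable {G : Type*} [Group G] [Finite G]

/-- The hypothesis, stated for subgroups outside the solvable radical. -/
structure Hyp (G : Type*) [Group G] : Prop where
  nonsolv : ¬ Group.IsSolvable G
  coatom : ∀ H : Subgroup G, TwoPrimes H → ¬ H ≤ solvRadical G → IsCoatom (normalizer (H : Set G))

/-- The statement's hypothesis implies it. -/
theorem Hyp.mk' (hns : ¬ Group.IsSolvable G)
    (h : ∀ H : Subgroup G, ¬ H.IsSubnormal →
      (∃ p q : ℕ, p.Prime ∧ q.Prime ∧ ∀ r : ℕ, r.Prime → r ∣ Nat.card H → r = p ∨ r = q) →
      IsCoatom (Subgroup.normalizer (H : Set G))) : Hyp G :=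
  ⟨hns, fun H hH hR => h H (fun hs => hR (le_solvRadical_of_isSubnormal hs hH.isSolvable)) hH⟩

variable (hG : Hyp G)
include hG

/-- The solvable radical normalises the two-prime subgroups outside it. -/
theorem Hyp.radical_le_normalizer {H : Subgroup G} (hH : TwoPrimes H)
    (hR : ¬ H ≤ solvRadical G) : solvRadical G ≤ normalizer (H : Set G) := by
  set R := solvRadical G with hRdef
  by_contra hle
  refine hR ?_
  have htop : normalizer (H : Set G) ⊔ R = ⊤ :=
    ((hG.coatom H hH hR).le_iff.1 le_sup_left).resolve_right fun e => hle (e ▸ le_sup_right)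
  -- `H ⊔ R` is normal and solvable
  have hn : H ≤ normalizer (R : Set G) := le_normalizer_of_normal
  haveI : (H ⊔ R).Normal := by
    refine normalizer_eq_top_iff.1 (top_unique (htop ▸ sup_le (fun g hg => ?_) ?_))
    · refine mem_normalizer_iff_map_conj_eq.2 ?_
      rw [Subgroup.map_sup, mem_normalizer_iff_map_conj_eq.1 hg]
      congr 1
      exact mem_normalizer_iff_map_conj_eq.1 ((normalizer_eq_top_iff.2 (inferInstance : R.Normal)).symm ▸ mem_top g)
    · exact le_sup_right.trans le_normalizer
  refine le_sup_left.trans (le_solvRadical (N := H ⊔ R) ?_)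
  rw [sup_comm]
  exact Components.isSolvable_sup isSolvable_solvRadical hH.isSolvable hn

/-- The quotient by the radical. -/
theorem Hyp.quotient : MN (G ⧸ solvRadical G) := by
  set R := solvRadical G with hRdef
  set π := QuotientGroup.mk' R with hπdef
  have hπ : Function.Surjective π := QuotientGroup.mk'_surjective R
  have hker : π.ker = R := QuotientGroup.ker_mk' R
  have hrad : ∀ N : Subgroup (G ⧸ R), N.Normal → Group.IsSolvable N → N = ⊥ := by
    intro N hN hs
    haveI := hN
    haveI : (N.comap π).Normal := hN.comap π
    have h : N.comap π ≤ R := le_solvRadical (N := N.comap π) <| by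
      refine Group.isSolvable_of_ker_le_range (Subgroup.inclusion (show R ≤ N.comap π from
        hker.ge.trans (ker_le_comap π N))) ((π.domRestrict (N.comap π)).codRestrict N fun x => x.2)
        (hG' := isSolvable_solvRadical) (hG'' := hs) ?_
      intro x hx
      have h1 : (x : G) ∈ R := hker.le (MonoidHom.mem_ker.2 (congrArg Subtype.val (MonoidHom.mem_ker.1 hx) : π (x : G) = 1))
      exact ⟨⟨x, h1⟩, Subtype.ext rfl⟩
    rw [← map_comap_eq_self_of_surjective hπ N, Subgroup.map_eq_bot_iff, hker]
    exact h
  refine ⟨fun A hA hA1 => ?_, hrad, ?_⟩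
  · set X := A.comap π with hX
    obtain ⟨H', hsup, hprimes⟩ := Cfsg.Agent.S4112.exists_supplement (R.subgroupOf X)
    set H := H'.map X.subtype with hHdef
    have hRX : R ≤ X := hker ▸ ker_le_comap π A
    have hsupX : H ⊔ R = X := by
      have := congrArg (Subgroup.map X.subtype) hsup
      rwa [Subgroup.map_sup, map_subgroupOf_eq_of_le hRX, ← MonoidHom.range_eq_map, range_subtype] at this
    have hmap : H.map π = A := by
      have := congrArg (Subgroup.map π) hsupX
      rw [Subgroup.map_sup, hX, map_comap_eq_self_of_surjective hπ] at this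
      rwa [(Subgroup.map_eq_bot_iff _).2 hker.ge, sup_bot_eq] at this
    have hHR : ¬ H ≤ R := fun hle => hA1 (by rw [← hmap, Subgroup.map_eq_bot_iff, hker]; exact hle)
    have hidx : (R.subgroupOf X).index = Nat.card A := by
      have h1 := FT.card_comap_of_surjective hπ A
      rw [hker, ← hX] at h1
      have h2 := (R.subgroupOf X).card_mul_index
      rw [Nat.card_congr (subgroupOfEquivOfLe hRX).toEquiv, h1, mul_comm] at h2
      exact Nat.eq_of_mul_eq_mul_right Nat.card_pos h2
    have hH2 : TwoPrimes H := by
      obtain ⟨p, q, hp, hq, hpq⟩ := hA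
      refine ⟨p, q, hp, hq, fun r hr hrd => hpq r hr ?_⟩
      rw [← hidx]
      exact hprimes r hr (by rwa [hHdef, card_map_of_injective X.subtype_injective] at hrd)
    set P := normalizer (H : Set G) with hP
    have hPco := hG.coatom H hH2 hHR
    have hRP : R ≤ P := hG.radical_le_normalizer hH2 hHR
    have hcm : (P.map π).comap π = P := by rw [comap_map_eq, hker, sup_eq_left.2 hRP]
    have hco : IsCoatom (P.map π) := by
      refine ⟨fun e => hPco.1 (hcm.symm.trans (by rw [e, comap_top])), fun B hB => ?_⟩
      have h1 : P < B.comap π := by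
        rw [← hcm]
        exact comap_lt_comap_of_surjective hπ |>.2 hB
      rw [← map_comap_eq_self_of_surjective hπ B, hPco.2 _ h1, map_top_of_surjective π hπ]
    have hle : P.map π ≤ normalizer (A : Set (G ⧸ R)) := hmap ▸ le_normalizer_map π
    rw [← eq_of_coatom_le hco hle fun e => hA1 (hrad A (normalizer_eq_top_iff.1 e) hA.isSolvable)]
    exact hco
  · rw [← not_subsingleton_iff_nontrivial]
    intro h
    refine hG.nonsolv ?_
    have hR : R = ⊤ := QuotientGroup.subsingleton_iff.1 h
    have hs : Group.IsSolvable R := isSolvable_solvRadical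
    rw [hR] at hs
    exact Group.isSolvable_of_surjective (f := (topEquiv (G := G)).toMonoidHom) topEquiv.surjective

end CfsgLib.MaxNormalizer
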