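import Cfsg.Agent.MaxNormalizer.Radical
import Cfsg.Agent.MaxNormalizer.AlmostSimple
import Cfsg.Agent.PLocal.Cores
import Cfsg.Agent.LocalStructure.Cores

/-!
# The perfect residual centralises the solvable radical

`G/R` being simple of order `1092`, the least normal supplement `L` of `R` is perfect, and an
element of `p`-power order outside `R` gives `[L, R] ≤ O_p(G)` for each prime `p ∣ 1092`.
-/

set_option autoImplicit false
set_option linter.style.haveILetI false
set_option linter.unusedSectionVars false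

namespace CfsgLib.MaxNormalizer

open Subgroup
open CfsgLib.Components (solvRadical)
open scoped commutatorElement

variable {G : Type*} [Group G] [Finite G]

/-- The elements of `p`-power order lift. -/
theorem exists_pow_lift {H : Type*} [Group H] {π : G →* H} (hπ : Function.Surjective π) {x : H}
    {p : ℕ} (hp : p.Prime) (hx : orderOf x = p) :
    ∃ g : G, ∃ k, orderOf g = p ^ k ∧ π g ≠ 1 := by
  obtain ⟨g, rfl⟩ := hπ x
  have hg := (orderOf_pos g).ne'
  refine ⟨g ^ (orderOf g / p ^ (orderOf g).factorization p), (orderOf g).factorization p, ?_, ?_⟩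
  · exact orderOf_pow_orderOf_div hg (Nat.ordProj_dvd _ _)
  · rw [map_pow]
    intro h
    have h1 := orderOf_dvd_of_pow_eq_one h
    rw [hx] at h1
    exact Nat.not_dvd_ordCompl hp hg h1

variable (hG : Hyp G)
include hG

/-- A two-prime subgroup outside the radical is normalised by it, for elements. -/
theorem Hyp.conj_mem {H : Subgroup G} (hH : TwoPrimes H) (hR : ¬ H ≤ solvRadical G) {s : G}
    (hs : s ∈ solvRadical G) {h : G} (hh : h ∈ H) : s * h * s⁻¹ ∈ H :=
  (mem_normalizer_iff.1 (hG.radical_le_normalizer hH hR hs) h).1 hh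

/-- A perfect normal supplement of the radical centralising it. -/
theorem Hyp.exists_residual :
    ∃ L : Subgroup G, L.Normal ∧ L ⊔ solvRadical G = ⊤ ∧ ⁅L, L⁆ = L ∧
      ∀ l ∈ L, ∀ r ∈ solvRadical G, Commute l r := by
  classical
  set R := solvRadical G with hRdef
  set π := QuotientGroup.mk' R with hπdef
  have hπ : Function.Surjective π := QuotientGroup.mk'_surjective R
  have hker : π.ker = R := QuotientGroup.ker_mk' R
  obtain ⟨hQs, hQc⟩ := hG.quotient.simple_card
  haveI := hQs
  obtain ⟨L, ⟨hLn, hL⟩, hmin⟩ := Set.Finite.exists_minimalFor (fun N : Subgroup G => Nat.card N)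
    {N : Subgroup G | N.Normal ∧ N ⊔ R = ⊤} (Set.toFinite _) ⟨⊤, inferInstance, top_sup_eq R⟩
  haveI := hLn
  have hsmall : ∀ N : Subgroup G, N.Normal → N ≤ L → N ⊔ R = ⊤ → N = L := fun N hN hle hs =>
    eq_of_le_of_card_ge hle (hmin ⟨hN, hs⟩ (card_le_of_le hle))
  have hiff : ∀ N : Subgroup G, N.map π = ⊤ ↔ N ⊔ R = ⊤ := fun N => by
    constructor
    · intro h
      rw [← hker, ← comap_map_eq, h, comap_top]
    · intro h
      have h1 := congrArg (Subgroup.map π) h
      rwa [Subgroup.map_sup, (Subgroup.map_eq_bot_iff _).2 hker.ge, sup_bot_eq,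
        map_top_of_surjective π hπ] at h1
  have hcomm : ⁅(⊤ : Subgroup (G ⧸ R)), (⊤ : Subgroup (G ⧸ R))⁆ = ⊤ := by
    refine ((inferInstance : (⁅(⊤ : Subgroup (G ⧸ R)), (⊤ : Subgroup (G ⧸ R))⁆).Normal).eq_bot_or_eq_top
      ).resolve_left fun h => ?_
    rw [commutator_eq_bot_iff_le_centralizer] at h
    have hab : ∀ a b : G ⧸ R, a * b = b * a := fun a b =>
      (mem_centralizer_iff.1 (h (mem_top a)) b (mem_top b)).symm
    haveI : Group.IsSolvable (G ⧸ R) := Group.isSolvable_of_comm hab
    haveI := hG.quotient.nontriv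
    refine (top_ne_bot : (⊤ : Subgroup (G ⧸ R)) ≠ ⊥) (hG.quotient.radical ⊤ inferInstance ?_)
    exact Group.isSolvable_of_surjective (f := (topEquiv (G := G ⧸ R)).symm.toMonoidHom) topEquiv.symm.surjective
  have hLmap : L.map π = ⊤ := (hiff L).2 hL
  have hperf : ⁅L, L⁆ = L := hsmall _ inferInstance (commutator_le_left L L)
    ((hiff _).1 (by rw [map_commutator, hLmap, hcomm]))
  refine ⟨L, hLn, hL, hperf, fun l hl r hr => ?_⟩
  -- commutators lie in every relevant core
  have key : ∀ p : ℕ, p.Prime → p ∣ 1092 → ⁅l, r⁆ ∈ Cfsg.pCore p G := by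
    intro p hp hpd
    haveI := Fact.mk hp
    haveI : (Cfsg.pCore p G).Normal := CfsgLib.LocalStructure.pCore_normal
    obtain ⟨xb, hxb⟩ := exists_prime_orderOf_dvd_card' (G := G ⧸ R) p (hQc ▸ hpd)
    obtain ⟨x, k, hxo, hx⟩ := exists_pow_lift hπ hp hxb
    have hxR : x ∉ R := fun h => hx ((QuotientGroup.eq_one_iff x).2 h)
    have h2p : TwoPrimes (zpowers x) := .of_isPGroup hp (isPGroup_zpowers hxo)
    have hnle : ¬ zpowers x ≤ R := fun h => hxR (h (mem_zpowers x))
    have hX : zpowers x ⊓ R ≤ Cfsg.pCore p G := by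
      refine CfsgLib.PLocal.le_pCore_of_le_isSubnormal (Normal.isSubnormal (inferInstance : R.Normal)) _
        inf_le_right (fun s hs => mem_normalizer_of_conj fun z hz =>
          mem_inf.2 ⟨hG.conj_mem h2p hnle hs (mem_inf.1 hz).1,
            R.mul_mem (R.mul_mem hs (mem_inf.1 hz).2) (R.inv_mem hs)⟩)
        ((isPGroup_zpowers hxo).to_le inf_le_left)
    set μ := QuotientGroup.mk' (Cfsg.pCore p G) with hμ
    have hμs : Function.Surjective μ := QuotientGroup.mk'_surjective _
    haveI : (R.map μ).Normal := (inferInstance : R.Normal).map μ hμs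
    set C := (centralizer ((R.map μ : Subgroup _) : Set (G ⧸ Cfsg.pCore p G))).comap μ with hCdef
    haveI : C.Normal := (inferInstance :
      (centralizer ((R.map μ : Subgroup _) : Set (G ⧸ Cfsg.pCore p G))).Normal).comap μ
    have hxC : x ∈ C := by
      refine mem_comap.2 (mem_centralizer_iff.2 ?_)
      rintro _ ⟨s, hs, rfl⟩
      have hc : s * x * s⁻¹ * x⁻¹ ∈ zpowers x ⊓ R := by
        refine mem_inf.2 ⟨mul_mem (hG.conj_mem h2p hnle hs (mem_zpowers x)) (inv_mem (mem_zpowers x)), ?_⟩
        rw [show s * x * s⁻¹ * x⁻¹ = s * (x * s⁻¹ * x⁻¹) by group]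
        exact R.mul_mem hs ((inferInstance : R.Normal).conj_mem _ (R.inv_mem hs) x)
      have h1 : μ (s * x * s⁻¹ * x⁻¹) = 1 := (QuotientGroup.eq_one_iff _).2 (hX hc)
      rw [map_mul, map_mul, map_mul, map_inv, map_inv, mul_inv_eq_one, mul_inv_eq_iff_eq_mul] at h1
      exact h1
    haveI : (C.map π).Normal := (inferInstance : C.Normal).map π hπ
    have hCmap : C.map π = ⊤ := ((inferInstance : (C.map π).Normal).eq_bot_or_eq_top).resolve_left
      fun h => hx (mem_bot.1 (h ▸ mem_map_of_mem π hxC))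
    have hLC : L ≤ C := by
      have h := hsmall ⁅L, C⁆ inferInstance (commutator_le_left L C)
        ((hiff _).1 (by rw [map_commutator, hLmap, hCmap, hcomm]))
      exact h ▸ commutator_le_right L C
    have h1 := mem_centralizer_iff.1 (mem_comap.1 (hLC hl)) (μ r) (mem_map_of_mem μ hr)
    refine (QuotientGroup.eq_one_iff _).1 ?_
    show μ ⁅l, r⁆ = 1
    rw [map_commutatorElement]
    exact commutatorElement_eq_one_iff_mul_comm.2 h1.symm
  haveI := Fact.mk Nat.prime_two
  haveI := Fact.mk Nat.prime_three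
  have hd := IsPGroup.disjoint_of_ne 2 3 (by norm_num) _ _ (CfsgLib.PLocal.isPGroup_pCore 2 G)
    (CfsgLib.PLocal.isPGroup_pCore 3 G)
  exact commutatorElement_eq_one_iff_mul_comm.1 (mem_bot.1 (hd.eq_bot ▸
    mem_inf.2 ⟨key 2 Nat.prime_two (by norm_num), key 3 Nat.prime_three (by norm_num)⟩))

end CfsgLib.MaxNormalizer
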