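import Cfsg.Agent.MaxNormalizer.NotSylow
import Cfsg.Agent.S3282
import Cfsg.Agent.Classification.PSLTwoGeneral.Main
import Cfsg.Agent.Classification.DihedralBSW

/-!
# The group when some involution centraliser is not a two-group

A Sylow subgroup is then a four group, the group is simple with one class of involutions, and the
Brauer–Suzuki–Wall theorem identifies it with `PSL(2, q)` with `|C(t)| = 4r`, `r` an odd prime.
-/

set_option autoImplicit false
set_option linter.style.haveILetI false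
set_option linter.unusedSectionVars false

namespace CfsgLib.MaxNormalizer

open Subgroup
open CfsgLib.Small (mul_self_of_orderOf_two ne_one_of_orderOf_two orderOf_conj_eq)
open CfsgLib.CITGroups (exists_orderOf_eq_two_pow orderOf_two_of_mul_self)

variable {G : Type*} [Group G] [Finite G]

theorem isPGroup_map_conj {S : Subgroup G} (hS : IsPGroup 2 S) (g : G) :
    IsPGroup 2 (S.map (MulAut.conj g).toMonoidHom) :=
  hS.map _

theorem mem_map_conj {S : Subgroup G} {g x : G} :
    x ∈ S.map (MulAut.conj g).toMonoidHom ↔ g⁻¹ * x * g ∈ S := by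
  constructor
  · rintro ⟨s, hs, rfl⟩
    simpa [mul_assoc] using hs
  · intro h
    exact ⟨_, h, by simp [mul_assoc]⟩

/-- The group is `PSL(2, q)`, `q` odd, and centralisers of involutions have order `4r`. -/
theorem psl_of_hasOdd (hG : MN G) (T : Subgroup G) [T.Normal] [IsSimpleGroup T]
    (hna : ¬ IsMulCommutative T) {t : G} (ht : orderOf t = 2) (htT : t ∈ T) (hodd : HasOdd t) :
    T = ⊤ ∧ (∃ (F : Type) (_ : Field F) (_ : Fintype F), Odd (Fintype.card F) ∧
      Nonempty (G ≃* Matrix.ProjectiveSpecialLinearGroup (Fin 2) F)) ∧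
    ∀ u : G, orderOf u = 2 → ∃ r : ℕ, r.Prime ∧ r ≠ 2 ∧
      Nat.card (centralizer ({u} : Set G)) = 4 * r := by
  haveI : Fact (Nat.Prime 2) := ⟨Nat.prime_two⟩
  obtain ⟨y, hyM, hy⟩ := hodd
  set M := centralizer ({t} : Set G) with hMdef
  have htM : t ∈ M := mem_centralizer_singleton_iff.2 rfl
  have ht1 := ne_one_of_orderOf_two ht
  have htt := mul_self_of_orderOf_two ht
  obtain ⟨a₀, ha₀M, ha₀, ha₀E⟩ := exists_outer hG T hna ht htT
  have htp : IsPGroup 2 (zpowers t) := isPGroup_zpowers (k := 1) (by rw [ht, pow_one])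
  have hap : IsPGroup 2 (zpowers a₀) := isPGroup_zpowers (k := 1) (by rw [ha₀, pow_one])
  have hle : zpowers a₀ ≤ normalizer (zpowers t : Set G) := by
    rw [normalizer_zpowers_invol ht, zpowers_le]; exact ha₀M
  obtain ⟨S, hTS, hSM, hS, hmax⟩ := CfsgLib.EPPOSeven.exists_maximal_two_subgroup
    (htp.to_sup_of_normal_left' hap hle) (sup_le (zpowers_le.2 htM) (zpowers_le.2 ha₀M))
  have htS : t ∈ S := hTS (mem_sup_left (mem_zpowers t))
  have ha₀S : a₀ ∈ S := hTS (mem_sup_right (mem_zpowers a₀))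
  have hsyl : ∀ {P : Subgroup G}, IsPGroup 2 P → S ≤ P → P = S := fun {P} hP hSP =>
    sylow_of_maximal hG ht hy hyM T hna htT hS hSM hmax htS hP hSP
  let SS : Sylow 2 G := ⟨S, hS, hsyl⟩
  have hSc := two_commute hG ht ha₀ ha₀M ha₀E hy hyM hS hSM
  obtain ⟨P, hP⟩ := exists_sylow_normal SS T
  -- an involution of `T` outside
  obtain ⟨u₁, hu₁P, hu₁o, hu₁⟩ := exists_second_invol hna P (t := ⟨t, htT⟩) (coe_orderOf_two.1 ht)
  obtain ⟨a, haT, haS, ha, hat⟩ : ∃ a : G, a ∈ T ∧ a ∈ S ∧ orderOf a = 2 ∧ a ≠ t :=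
    ⟨u₁, u₁.2, (hP u₁).1 hu₁P, coe_orderOf_two.2 hu₁o, fun e => hu₁ (Subtype.ext e)⟩
  have haM : a ∈ M := hSM haS
  have haE : ¬ InE t a := fun h => (inE_eq hG ht ha₀ ha₀M ha₀E hy hyM h).elim
    (ne_one_of_orderOf_two ha) hat
  have haa := mul_self_of_orderOf_two ha
  have hcat : Commute a t := hSc a haS t htS
  have hinv := fun {x : G} (hx : OddEl x) (hxM : x ∈ M) => inverts hG ht ha haM haE hx hxM
  have hcases : ∀ u ∈ S, u * u = 1 → u = 1 ∨ u = t ∨ u = a ∨ u = a * t := by
    intro u hu huu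
    by_cases h1 : u = 1
    · exact Or.inl h1
    exact Or.inr (invol_cases hG ht ha haM haE hy hyM (orderOf_two_of_mul_self huu h1) (hSM hu)
      (hSc u hu a haS))
  -- `t` is conjugate to the other two
  haveI hPab : IsMulCommutative (P : Subgroup T) :=
    ⟨⟨fun u v => Subtype.ext (Subtype.ext (hSc _ ((hP _).1 u.2) _ ((hP _).1 v.2)).eq)⟩⟩
  have htP : (⟨t, htT⟩ : T) ∈ (P : Subgroup T) := (hP _).2 htS
  obtain ⟨g, hgP, hgne⟩ := not_isolated hna P (coe_orderOf_two.1 ht) htP
  obtain ⟨n, hn, hne⟩ := P.conj_eq_normalizer_conj_of_mem ⟨t, htT⟩ g⁻¹ htP (by rwa [inv_inv])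
  rw [inv_inv] at hne
  obtain ⟨p, q, hp, hq, ⟨kp, hpo⟩, hqo, hpq⟩ := exists_parts n⁻¹
  have hN : n⁻¹ ∈ normalizer ((P : Subgroup T) : Set T) := inv_mem hn
  have hpN := (zpowers_le.2 hN) hp
  have hqN := (zpowers_le.2 hN) hq
  have hpP : p ∈ (P : Subgroup T) := by
    have h := P.3 (P.2.to_sup_of_normal_left' (isPGroup_zpowers hpo) (zpowers_le.2 hpN)) le_sup_left
    exact h ▸ mem_sup_right (mem_zpowers p)
  set tT : T := ⟨t, htT⟩
  set a' := q * tT * q⁻¹ with ha'def
  have ha'P : a' ∈ (P : Subgroup T) := (mem_normalizer_iff.1 hqN tT).1 htP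
  have ha' : a' = g * tT * g⁻¹ := by
    have hc : p * a' = a' * p :=
      congrArg Subtype.val (hPab.is_comm.comm ⟨p, hpP⟩ ⟨a', ha'P⟩)
    calc a' = p * a' * p⁻¹ := by rw [hc, mul_inv_cancel_right]
      _ = n⁻¹ * tT * n := by rw [ha'def, show n = (p * q)⁻¹ by rw [← hpq, inv_inv]]; group
      _ = g * tT * g⁻¹ := hne.symm
  have ha'ne : a' ≠ tT := ha' ▸ hgne
  set a'' := q * a' * q⁻¹ with ha''def
  have ha''P : a'' ∈ (P : Subgroup T) := (mem_normalizer_iff.1 hqN a').1 ha'P
  have ha''ne : a'' ≠ a' := fun e => ha'ne (mul_left_cancel (mul_right_cancel e))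
  have ha''net : a'' ≠ tT := by
    intro e
    have h2 : q * q ∈ centralizer ({tT} : Set T) := by
      refine mem_centralizer_singleton_iff.2 (mul_inv_eq_iff_eq_mul.1 ?_)
      calc q * q * tT * (q * q)⁻¹ = q * (q * tT * q⁻¹) * q⁻¹ := by group
        _ = tT := e
    have h3 := (zpowers_le.2 h2) (mem_zpowers_sq_of_odd hqo)
    exact ha'ne (mul_inv_eq_iff_eq_mul.2 (mem_centralizer_singleton_iff.1 h3))
  have hinS : ∀ u : T, u ∈ (P : Subgroup T) → orderOf u = 2 →
      (u : G) = t ∨ (u : G) = a ∨ (u : G) = a * t := fun u hu huo =>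
    (hcases u ((hP u).1 hu) (mul_self_of_orderOf_two (coe_orderOf_two.2 huo))).resolve_left
      (ne_one_of_orderOf_two (coe_orderOf_two.2 huo))
  have htTo : orderOf tT = 2 := coe_orderOf_two.1 ht
  have hconjt : ∀ u ∈ S, orderOf u = 2 → ∃ k : T, k ∈ normalizer ((P : Subgroup T) : Set T) ∧
      (k : G) * t * (k : G)⁻¹ = u := by
    intro u hu huo
    rcases (hcases u hu (mul_self_of_orderOf_two huo)).resolve_left (ne_one_of_orderOf_two huo)
      with h | h | h
    · exact ⟨1, one_mem _, by simp [h]⟩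
    all_goals
      rcases hinS a' ha'P (by rw [ha'def, orderOf_conj_eq, htTo]) with e1 | e1 | e1
      · exact absurd (Subtype.ext e1) ha'ne
      all_goals
        rcases hinS a'' ha''P (by rw [ha''def, orderOf_conj_eq, ha'def, orderOf_conj_eq, htTo])
          with e2 | e2 | e2
        · exact absurd (Subtype.ext e2) ha''net
        all_goals first
          | exact absurd (Subtype.ext (e2.trans e1.symm)) ha''ne
          | exact ⟨q, hqN, show (a' : G) = u from e1.trans h.symm⟩
          | exact ⟨q * q, mul_mem hqN hqN, by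
              rw [← h] at e2
              rw [← e2, ha''def, ha'def]
              show (q : G) * (q : G) * t * ((q : G) * (q : G))⁻¹ =
                (q : G) * ((q : G) * t * (q : G)⁻¹) * (q : G)⁻¹
              group⟩
  -- `S` is elementary
  have hSsq : ∀ s ∈ S, s * s = 1 := by
    intro s hs
    by_contra hss
    obtain ⟨k, hk⟩ := exists_orderOf_eq_two_pow hS hs
    obtain ⟨i, hi⟩ := exists_invol_pow hk fun e => hss (by rw [e, one_mul])
    obtain ⟨m, -, hm⟩ := hconjt _ (pow_mem hs i) hi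
    set u := s ^ i with hu
    have hSu : S ≤ centralizer ({u} : Set G) := fun z hz =>
      mem_centralizer_singleton_iff.2 (hSc z hz u (pow_mem hs i)).eq
    set S1 := S.map (MulAut.conj (m : G)).toMonoidHom
    have hS1u : S1 ≤ centralizer ({u} : Set G) := by
      rintro _ ⟨z, hz, rfl⟩
      rw [← hm, centralizer_conj_iff]
      simpa [mul_assoc] using mem_centralizer_singleton_iff.2 (hSc z hz t htS).eq
    have hS1max : ∀ Q : Subgroup G, IsPGroup 2 Q → Q ≤ centralizer ({u} : Set G) → S1 ≤ Q → Q = S1 :=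
      fun Q hQ _ hle => by
        refine (eq_of_le_of_card_ge hle ?_).symm
        obtain ⟨R, hR⟩ := hQ.exists_le_sylow
        rw [card_map_of_injective (MulAut.conj (m : G)).injective]
        calc Nat.card Q ≤ Nat.card (R : Subgroup G) := card_le_of_le hR
          _ = Nat.card (SS : Subgroup G) := by rw [R.card_eq_multiplicity, SS.card_eq_multiplicity]
          _ = Nat.card S := rfl
    obtain ⟨c, hc, hcS⟩ := CfsgLib.EPPOSeven.exists_conj_maximal (hS.map _) hS1u hS1max hS hSu
      (fun Q hQ _ hle => hsyl hQ hle)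
    set d := c * (m : G) with hd
    have hdt : d * t * d⁻¹ = u := by
      calc d * t * d⁻¹ = c * ((m : G) * t * (m : G)⁻¹) * c⁻¹ := by rw [hd]; group
        _ = u := by rw [hm, mem_centralizer_singleton_iff.1 hc, mul_inv_cancel_right]
    have hds : d⁻¹ * s * d ∈ S := by
      rw [← hcS] at hs
      have h2 := mem_map_conj.1 (mem_map_conj.1 hs)
      rw [hd, mul_inv_rev]
      simpa [mul_assoc] using h2
    obtain ⟨k', hk'⟩ := exists_orderOf_eq_two_pow hS hds
    have h := mul_self_of_pow_eq hG ht ha haM haE hy hyM (hSM hds) hk' (n := i) (by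
      have := conj_pow (i := i) (a := d⁻¹) (b := s)
      rw [inv_inv] at this
      rw [this, ← hu, ← hdt]
      group)
    refine hss ?_
    calc s * s = d * ((d⁻¹ * s * d) * (d⁻¹ * s * d)) * d⁻¹ := by group
      _ = 1 := by rw [h, mul_one, mul_inv_cancel]
  have hST : S ≤ T := by
    intro s hs
    rcases hcases s hs (hSsq s hs) with rfl | rfl | rfl | rfl
    · exact one_mem _
    · exact htT
    · exact haT
    · exact mul_mem haT htT
  -- centraliser of the four group
  have hyT : ∀ x ∈ zpowers y, a * x = x * a → x = 1 := by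
    rintro x ⟨i, rfl⟩ hc
    refine hy.eq_one_of_mul_self (zpow_mem (mem_zpowers y) i) ?_
    have h : a * y ^ i * a⁻¹ = (y ^ i)⁻¹ := by rw [← conj_zpow, hinv hy hyM, inv_zpow]
    rw [mul_inv_eq_iff_eq_mul.2 hc] at h
    exact mul_eq_one_iff_eq_inv.2 h
  have hCV : ∀ x ∈ M, Commute x a → x ∈ S := by
    intro x hxM hc
    obtain ⟨p', q', hp', hq', ⟨k', hk'⟩, hq'o, rfl⟩ := exists_parts x
    have hq'1 : q' = 1 := by
      refine hyT q' (odd_mem hG ht ha haM haE hy hyM ((zpowers_le.2 hxM) hq') hq'o) ?_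
      obtain ⟨j, hj⟩ := hq'
      exact (show (p' * q') ^ j = q' from hj) ▸ (hc.zpow_left j).symm.eq
    subst hq'1
    rw [mul_one] at hxM hc hp' ⊢
    have hpc : ∀ z ∈ S, Commute p' z := by
      intro z hz
      have h1 : Commute p' t := mem_centralizer_singleton_iff.1 hxM
      rcases hcases z hz (hSsq z hz) with rfl | rfl | rfl | rfl
      · exact Commute.one_right _
      · exact h1
      · exact hc
      · exact hc.mul_right h1
    have hn' : zpowers p' ≤ normalizer (S : Set G) := zpowers_le.2 (mem_normalizer_of_conj fun z hz => by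
      rw [(hpc z hz).eq, mul_inv_cancel_right]; exact hz)
    have h := hsyl (hS.to_sup_of_normal_left' (isPGroup_zpowers hk') hn') le_sup_left
    exact h ▸ mem_sup_right (mem_zpowers p')
  -- the group is simple
  have hTtop : T = ⊤ := by
    have hF := Sylow.normalizer_sup_eq_top P
    have hPS : (P : Subgroup T).map T.subtype = S := by
      ext x
      constructor
      · rintro ⟨z, hz, rfl⟩; exact (hP z).1 hz
      · intro hx; exact ⟨⟨x, hST hx⟩, (hP _).2 hx, rfl⟩
    rw [hPS] at hF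
    rw [← hF, eq_comm, sup_eq_right]
    intro h hh
    obtain ⟨k, hkN, hk⟩ := hconjt (h * t * h⁻¹) ((mem_normalizer_iff.1 hh t).1 htS)
      (by rw [orderOf_conj_eq, ht])
    have hkS : (k : G) ∈ normalizer (S : Set G) := mem_normalizer_of_conj fun z hz => by
      have := (mem_normalizer_iff.1 hkN ⟨z, hST hz⟩).1 ((hP _).2 hz)
      exact (hP _).1 this
    set j := (k : G)⁻¹ * h with hj
    have hjN : j ∈ normalizer (S : Set G) := mul_mem (inv_mem hkS) hh
    have hjM : j ∈ M := by
      refine mem_centralizer_singleton_iff.2 (mul_inv_eq_iff_eq_mul.1 ?_)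
      calc j * t * j⁻¹ = (k : G)⁻¹ * (h * t * h⁻¹) * k := by rw [hj]; group
        _ = t := by rw [← hk]; group
    have hja : Commute j a := by
      have hjo : orderOf (j * a * j⁻¹) = 2 := by rw [orderOf_conj_eq, ha]
      rcases (hcases _ ((mem_normalizer_iff.1 hjN a).1 haS) (mul_self_of_orderOf_two hjo)).resolve_left
        (ne_one_of_orderOf_two hjo) with e | e | e
      · exact absurd (mul_left_cancel (mul_right_cancel
          (e.trans (mul_inv_eq_iff_eq_mul.2 (mem_centralizer_singleton_iff.1 hjM)).symm))) hat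
      · exact mul_inv_eq_iff_eq_mul.1 e
      · exfalso
        have h1 := conj_outer hG ht ha haM haE hy hyM hjM
        rw [e, hcat.eq, mul_inv_cancel_right] at h1
        exact ht1 (hy.eq_one_of_mul_self h1 htt)
    rw [show h = (k : G) * j by rw [hj]; group]
    exact mul_mem k.2 (hST (hCV j hjM hja))
  haveI hGs : IsSimpleGroup G := by
    subst hTtop
    exact (Subgroup.topEquiv (G := G)).symm.isSimpleGroup
  have hnaG : ¬ IsMulCommutative G := fun hc => hna
    ⟨⟨fun u v => Subtype.ext (hc.is_comm.comm (u : G) v)⟩⟩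
  -- one class of involutions
  have hclass : ∀ u : G, orderOf u = 2 → IsConj t u := by
    intro u hu
    obtain ⟨c, hc⟩ := CfsgLib.Small.exists_conj_mem_sylow SS hu
    obtain ⟨k, -, hk⟩ := hconjt _ hc (by rw [orderOf_conj_eq, hu])
    refine isConj_iff.2 ⟨c⁻¹ * k, ?_⟩
    calc c⁻¹ * (k : G) * t * (c⁻¹ * k)⁻¹ = c⁻¹ * ((k : G) * t * (k : G)⁻¹) * c := by group
      _ = u := by rw [hk]; group
  -- the cyclic subgroup
  set K := M ⊓ centralizer ({y} : Set G) with hKdef
  have hKmem : ∀ x, x ∈ K ↔ x ∈ M ∧ Commute x y := fun x => by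
    rw [hKdef, mem_inf]; exact and_congr_right fun _ => mem_centralizer_singleton_iff
  have hKform : ∀ x ∈ K, ∃ i : ℤ, x = y ^ i ∨ x = t * y ^ i := by
    intro x hx
    obtain ⟨hxM, hxy⟩ := (hKmem x).1 hx
    obtain ⟨i, e, he, rfl⟩ := centralizer_odd hG ht ha haM haE hy hyM hxM hxy
    rcases inE_eq hG ht ha haM haE hy hyM he with rfl | rfl
    · exact ⟨i, Or.inl (one_mul _)⟩
    · exact ⟨i, Or.inr rfl⟩
  have hty : ∀ i : ℤ, Commute t (y ^ i) := fun i =>
    Commute.zpow_right (Commute.symm (mem_centralizer_singleton_iff.1 hyM)) i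
  have hKinv : ∀ x ∈ K, a * x * a⁻¹ = x⁻¹ := by
    intro x hx
    obtain ⟨i, rfl | rfl⟩ := hKform x hx
    · rw [← conj_zpow, hinv hy hyM, inv_zpow]
    · calc a * (t * y ^ i) * a⁻¹ = (a * t * a⁻¹) * (a * y ^ i * a⁻¹) := by group
        _ = t * (y ^ i)⁻¹ := by rw [hcat.eq, mul_inv_cancel_right, ← conj_zpow, hinv hy hyM, inv_zpow]
        _ = (t * y ^ i)⁻¹ := by
          rw [mul_inv_rev, inv_eq_of_mul_eq_one_right htt, ((hty i).inv_right).eq]
  have hKab : IsMulCommutative K := ⟨⟨fun u v => by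
    refine Subtype.ext (inv_injective ?_)
    show ((u : G) * v)⁻¹ = ((v : G) * u)⁻¹
    rw [← hKinv _ (mul_mem u.2 v.2), mul_inv_rev, ← hKinv _ u.2, ← hKinv _ v.2]
    group⟩⟩
  have htK : t ∈ K := (hKmem t).2 ⟨htM, (mem_centralizer_singleton_iff.1 hyM).symm⟩
  have hyK : y ∈ K := (hKmem y).2 ⟨hyM, Commute.refl y⟩
  have haK : a ∉ K := fun h => haE (inE_of_commute hG ht ha haM hy hyM ((hKmem a).1 h).2.symm)
  have hMK : ∀ m ∈ M, m ∈ K ∨ m * a ∈ K := by
    intro m hm
    obtain ⟨p', q', hp', hq', ⟨k', hk'⟩, hq'o, rfl⟩ := exists_parts m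
    have hp'M : p' ∈ M := (zpowers_le.2 hm) hp'
    obtain ⟨i, hqi⟩ := odd_mem hG ht ha haM haE hy hyM ((zpowers_le.2 hm) hq') hq'o
    have hqi' : y ^ i = q' := hqi
    have hp'2 : p' * p' = 1 := by
      obtain ⟨R, hR⟩ := (isPGroup_zpowers hk').exists_le_sylow
      obtain ⟨c, hc⟩ := MulAction.exists_smul_eq G R SS
      have h : MulAut.conj c p' ∈ c • R := ⟨p', hR (mem_zpowers p'), rfl⟩
      rw [hc] at h
      have h2 := hSsq _ h
      rw [← map_mul, ← map_one (MulAut.conj c)] at h2
      exact (MulAut.conj c).injective h2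
    have hqK : q' ∈ K := hqi' ▸ zpow_mem hyK i
    by_cases hE : InE t p'
    · exact Or.inl (mul_mem ((hKmem p').2 ⟨hp'M, (hE.2.2 y hyM).symm⟩) hqK)
    · right
      have hp'1 : p' ≠ 1 := fun e => hE (e ▸ ⟨one_mem _, one_mul 1, fun z _ => Commute.one_right z⟩)
      refine (hKmem _).2 ⟨mul_mem hm haM, mul_inv_eq_iff_eq_mul.1 ?_⟩
      calc p' * q' * a * y * (p' * q' * a)⁻¹ = p' * (q' * (a * y * a⁻¹) * q'⁻¹) * p'⁻¹ := by group
        _ = p' * y⁻¹ * p'⁻¹ := by
          rw [hinv hy hyM, ← hqi', ((Commute.refl y).zpow_left i).inv_right.eq, mul_inv_cancel_right]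
        _ = y := by
          rw [← conj_inv, inverts hG ht (orderOf_two_of_mul_self hp'2 hp'1) hp'M hE hy hyM, inv_inv]
  have hKa : K ⊔ zpowers a = M := by
    refine le_antisymm (sup_le inf_le_left (zpowers_le.2 haM)) fun m hm => ?_
    rcases hMK m hm with h | h
    · exact mem_sup_left h
    · have : m = m * a * a := by rw [mul_assoc, haa, mul_one]
      rw [this]
      exact mul_mem (mem_sup_left h) (mem_sup_right (mem_zpowers a))
  have hKCa : K ⊓ centralizer ({a} : Set G) = zpowers t := by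
    refine le_antisymm ?_ (zpowers_le.2 ⟨htK, mem_centralizer_singleton_iff.2 hcat.symm.eq⟩)
    rintro x ⟨hxK, hxa⟩
    have hxS := hCV x ((hKmem x).1 hxK).1 (mem_centralizer_singleton_iff.1 hxa)
    have haty : ¬ Commute (a * t) y := fun h => haK ((hKmem a).2 ⟨haM, by
      have h3 : Commute (a * t * t) y := h.mul_left (mem_centralizer_singleton_iff.1 hyM).symm
      rwa [mul_assoc, htt, mul_one] at h3⟩)
    rcases hcases x hxS (hSsq x hxS) with rfl | rfl | rfl | rfl
    · exact one_mem _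
    · exact mem_zpowers _
    · exact absurd hxK haK
    · exact absurd ((hKmem _).1 hxK).2 haty
  have hTI : ∀ g : G, g ∉ M → K ⊓ K.map (MulAut.conj g).toMonoidHom = ⊥ := by
    intro g hg
    refine (eq_bot_iff_forall _).2 fun x hx => ?_
    obtain ⟨hxK, hxg⟩ := hx
    have hx' := mem_map_conj.1 hxg
    set x' := g⁻¹ * x * g with hx'def
    by_contra hx1
    have hx'1 : x' ≠ 1 := fun e => hx1 (by
      rw [show x = g * x' * g⁻¹ by rw [hx'def]; group, e, mul_one, mul_inv_cancel])
    by_cases h2 : x * x = 1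
    · have hxt : ∀ z ∈ K, z * z = 1 → z ≠ 1 → z = t := by
        intro z hz hzz hz1
        have hza : z ∈ centralizer ({a} : Set G) := mem_centralizer_singleton_iff.2 (by
          have := hKinv z hz
          rw [inv_eq_of_mul_eq_one_right hzz] at this
          exact (mul_inv_eq_iff_eq_mul.1 this).symm)
        exact (mem_zpowers_invol ht (hKCa ▸ ⟨hz, hza⟩)).resolve_left hz1
      have h3 := hxt x hxK h2 hx1
      have h4 := hxt x' hx' (by
        rw [hx'def, show g⁻¹ * x * g * (g⁻¹ * x * g) = g⁻¹ * (x * x) * g by group, h2, mul_one,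
          inv_mul_cancel]) hx'1
      refine hg (mem_centralizer_singleton_iff.2 (mul_inv_eq_iff_eq_mul.1 ?_))
      conv_lhs => rw [← h4, hx'def]
      rw [h3]
      group
    · have hsq : ∀ z ∈ K, z * z ∈ zpowers y := by
        intro z hz
        obtain ⟨i, rfl | rfl⟩ := hKform z hz
        · exact mul_mem (zpow_mem (mem_zpowers y) i) (zpow_mem (mem_zpowers y) i)
        · rw [show t * y ^ i * (t * y ^ i) = t * (y ^ i * t) * y ^ i by group, (hty i).symm.eq,
            show t * (t * y ^ i) * y ^ i = t * t * (y ^ i * y ^ i) by group, htt, one_mul]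
          exact mul_mem (zpow_mem (mem_zpowers y) i) (zpow_mem (mem_zpowers y) i)
      have h2' : x' * x' ≠ 1 := fun e => h2 (by
        rw [show x * x = g * (x' * x') * g⁻¹ by rw [hx'def]; group, e, mul_one, mul_inv_cancel])
      have hN1 := normalizer_oddEl hG ht hy hyM
      rw [← hy.zpowers_eq (hsq x hxK) h2] at hN1
      have hN2 := normalizer_oddEl hG ht hy hyM
      rw [← hy.zpowers_eq (hsq x' hx') h2'] at hN2
      refine hg ?_
      show g ∈ centralizer ({t} : Set G)
      rw [← hG.normalizer_centralizer ht]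
      refine mem_normalizer_of_conj fun z hz => ?_
      rw [← hN1]
      rw [← hN2] at hz
      refine mem_normalizer_of_conj ?_
      rintro _ ⟨i, rfl⟩
      show g * z * g⁻¹ * (x * x) ^ i * (g * z * g⁻¹)⁻¹ ∈ zpowers (x * x)
      obtain ⟨j, hj⟩ := (mem_normalizer_iff.1 hz _).1 (zpow_mem (mem_zpowers (x' * x')) i)
      refine ⟨j, ?_⟩
      show (x * x) ^ j = g * z * g⁻¹ * (x * x) ^ i * (g * z * g⁻¹)⁻¹
      have hxx : ∀ l : ℤ, (x * x) ^ l = g * (x' * x') ^ l * g⁻¹ := fun l => by
        rw [← conj_zpow, hx'def]; congr 1; group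
      rw [hxx, show (x' * x') ^ j = z * (x' * x') ^ i * z⁻¹ from hj, hxx]
      group
  have hconj : ∀ u v : G, orderOf u = 2 → orderOf v = 2 → IsConj u v := fun u v hu hv =>
    (hclass u hu).symm.trans (hclass v hv)
  have hconc : CfsgLib.BSW.Conclusion G :=
    Cfsg.Agent.S3282.result t ht K hKab inf_le_left htK a ha haM haK hKa hKCa hKinv hTI hconj
  refine ⟨hTtop, CfsgLib.Classification.PSLTwoGeneral.exists_equiv_of_conclusion hconc
    (CfsgLib.Classification.DihedralBSW.card_ne_twelve SS hnaG), fun u hu => ?_⟩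
  -- the order of the centraliser
  obtain ⟨r, hr, hr2, hyo⟩ := id hy
  refine ⟨r, hr, hr2, ?_⟩
  obtain ⟨c, hc⟩ := isConj_iff.1 (hclass u hu)
  have hcu : Nat.card (centralizer ({u} : Set G)) = Nat.card M := by
    refine Nat.card_congr ((MulAut.conj c⁻¹).toEquiv.subtypeEquiv fun x => ?_)
    rw [← hc]
    show x ∈ centralizer ({c * t * c⁻¹} : Set G) ↔ MulAut.conj c⁻¹ x ∈ M
    rw [centralizer_conj_iff, MulAut.conj_apply, inv_inv]
  haveI := Fact.mk hr
  have hKcard : Nat.card K = 2 * r := by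
    have hK : K = zpowers t ⊔ zpowers y := by
      refine le_antisymm (fun x hx => ?_) (sup_le (zpowers_le.2 htK) (zpowers_le.2 hyK))
      obtain ⟨i, rfl | rfl⟩ := hKform x hx
      · exact mem_sup_right ⟨i, rfl⟩
      · exact mul_mem (mem_sup_left (mem_zpowers t)) (mem_sup_right ⟨i, rfl⟩)
    rw [hK, CfsgLib.Coprime.card_sup_eq
      (zpowers_le.2 (by rw [normalizer_zpowers_invol ht]; exact hyM))
      (IsPGroup.disjoint_of_ne 2 r (Ne.symm hr2) _ _ htp
        (isPGroup_zpowers (k := 1) (by rw [pow_one, hyo]))).eq_bot,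
      Nat.card_zpowers, Nat.card_zpowers, ht, hyo]
  have haN : zpowers a ≤ normalizer (K : Set G) := zpowers_le.2 (mem_normalizer_of_conj fun x hx => by
    rw [hKinv x hx]; exact inv_mem hx)
  have hdis : K ⊓ zpowers a = ⊥ := (eq_bot_iff_forall _).2 fun x hx => by
    rcases mem_zpowers_invol ha hx.2 with rfl | rfl
    · rfl
    · exact absurd hx.1 haK
  rw [hcu, ← hKa, CfsgLib.Coprime.card_sup_eq haN hdis, hKcard, Nat.card_zpowers, ha]
  ring

end CfsgLib.MaxNormalizer
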